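import Cfsg.Agent.Lib.Zassen.Struct
import Cfsg.Agent.Lib.Frobenius.Theorem

/-!
# Producing the standing hypotheses from fixed-point-free actions
-/

set_option autoImplicit false
set_option linter.unusedSectionVars false
set_option linter.style.haveILetI false

namespace Cfsg.Agent.Lib.Zassen.CtxOf

open Module Subgroup
open Cfsg.Agent.Lib.Zassen.Basic Cfsg.Agent.Lib.Zassen.Frames Cfsg.Agent.Lib.Zassen.Reduce
open Cfsg.Agent.Lib.Zassen.Semi Cfsg.Agent.Lib.Zassen.Unique Cfsg.Agent.Lib.Zassen.Struct
open scoped TensorProduct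

universe u v w

/-- From a fixed-point-free linear action over a field of characteristic `p` to the hypotheses over
an algebraically closed field. -/
theorem linear_ctx {F : Type u} {V₀ : Type v} {G : Type w} [Field F] [AddCommGroup V₀] [Module F V₀]
    [FiniteDimensional F V₀] [Nontrivial V₀] [Group G] {p : ℕ} [hp : Fact p.Prime]
    [CharP F p] (ρ₀ : G →* Module.End F V₀) (h : IsFPF ρ₀) {z : G} (hz2 : z ^ 2 = 1) (hz1 : z ≠ 1)
    {P : Prop}
    (hP : ∀ (E : Type u) (V : Type (max u v)) [Field E] [IsAlgClosed E] [AddCommGroup V] [Module E V]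
      [FiniteDimensional E V] [Nontrivial V] [CharP E p] (ρ : G →* Module.End E V),
      Ctx ρ z p → P) : P := by
  let E := AlgebraicClosure F
  haveI : CharP E p := charP_of_injective_algebraMap (algebraMap F E).injective p
  let ρ : G →* Module.End E (E ⊗[F] V₀) :=
    (Module.End.baseChangeHom F E V₀).toMonoidHom.comp ρ₀
  haveI : Nontrivial (E ⊗[F] V₀) := by
    apply Module.nontrivial_of_finrank_pos (R := E)
    rw [Module.finrank_baseChange]
    exact Module.finrank_pos
  have hfpf : IsFPF ρ := by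
    intro g hg v hv
    have hinj : Function.Injective (ρ₀ g - 1 : Module.End F V₀) := by
      rw [injective_iff_map_eq_zero]
      intro w hw
      apply h g hg
      have : ρ₀ g w - w = 0 := hw
      exact sub_eq_zero.mp this
    have hinj2 : Function.Injective (LinearMap.baseChange E (ρ₀ g - 1 : Module.End F V₀)) := by
      rw [LinearMap.baseChange_eq_ltensor]
      exact Module.Flat.lTensor_preserves_injective_linearMap _ hinj
    apply hinj2
    have e1 : (LinearMap.baseChange E (ρ₀ g - 1 : Module.End F V₀)) v = ρ g v - v := by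
      have e2 : LinearMap.baseChange E (ρ₀ g - 1 : Module.End F V₀) =
          (ρ₀ g).baseChange E - (1 : Module.End F V₀).baseChange E :=
        LinearMap.baseChange_sub _ _
      rw [e2]
      have e3 : ((1 : Module.End F V₀).baseChange E) = LinearMap.id := by
        ext x
        simp
      rw [e3]
      rfl
    rw [e1, hv, sub_self, map_zero]
  exact hP E (E ⊗[F] V₀) ρ ⟨hfpf, hz2, hz1, hpow_of_fpf ρ₀ h⟩

/-- The hypotheses for an additive action over a prime field. -/
theorem zmod_ctx {V₀ : Type v} {G : Type w} [AddCommGroup V₀] {r : ℕ} [hr : Fact r.Prime]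
    [Module (ZMod r) V₀] [Finite V₀] [Nontrivial V₀] [Group G] (act : G → V₀ ≃+ V₀)
    (hact1 : ∀ v, act 1 v = v) (hactm : ∀ g h v, act (g * h) v = act g (act h v))
    (hfpf : ∀ g : G, g ≠ 1 → ∀ a : V₀, act g a = a → a = 0) {z : G} (hz2 : z ^ 2 = 1) (hz1 : z ≠ 1)
    {P : Prop}
    (hP : ∀ (E : Type) (V : Type v) [Field E] [IsAlgClosed E] [AddCommGroup V] [Module E V]
      [FiniteDimensional E V] [Nontrivial V] [CharP E r] (ρ : G →* Module.End E V),
      Ctx ρ z r → P) : P := by
  haveI : NeZero r := ⟨hr.out.ne_zero⟩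
  haveI : Fintype (ZMod r) := ZMod.fintype r
  haveI : FiniteDimensional (ZMod r) V₀ := Module.Finite.of_finite
  let ρ₀ : G →* Module.End (ZMod r) V₀ :=
    { toFun := fun g => ((act g).toAddMonoidHom).toZModLinearMap r
      map_one' := by
        ext x
        simpa using hact1 x
      map_mul' := fun g h => by
        ext x
        simpa using hactm g h x }
  have hF : IsFPF ρ₀ := by
    intro g hg v hv
    exact hfpf g hg v hv
  exact linear_ctx (p := r) (F := ZMod r) ρ₀ hF hz2 hz1 hP

/-- The hypotheses for an action on an elementary abelian group, additively. -/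
theorem elem_ctx_add {V₀ : Type v} {G : Type w} [AddCommGroup V₀] [Finite V₀] [Nontrivial V₀]
    [Group G] {r : ℕ} [hr : Fact r.Prime] (hrA : ∀ a : V₀, r • a = 0) (act : G → V₀ ≃+ V₀)
    (hact1 : ∀ v, act 1 v = v) (hactm : ∀ g h v, act (g * h) v = act g (act h v))
    (hfpf : ∀ g : G, g ≠ 1 → ∀ a : V₀, act g a = a → a = 0) {z : G} (hz2 : z ^ 2 = 1) (hz1 : z ≠ 1)
    {P : Prop}
    (hP : ∀ (E : Type) (V : Type v) [Field E] [IsAlgClosed E] [AddCommGroup V] [Module E V]
      [FiniteDimensional E V] [Nontrivial V] [CharP E r] (ρ : G →* Module.End E V),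
      Ctx ρ z r → P) : P := by
  letI : Module (ZMod r) V₀ := AddCommGroup.zmodModule hrA
  exact zmod_ctx (r := r) act hact1 hactm hfpf hz2 hz1 hP

/-- The hypotheses for an action on an elementary abelian group. -/
theorem elem_ctx {A : Type v} {G : Type w} [CommGroup A] [Finite A] [Nontrivial A] [Group G]
    {r : ℕ} [hr : Fact r.Prime] (hrA : ∀ a : A, a ^ r = 1) (act : G →* MulAut A)
    (hfpf : ∀ g : G, g ≠ 1 → ∀ a : A, act g a = a → a = 1) {z : G} (hz2 : z ^ 2 = 1) (hz1 : z ≠ 1)
    {P : Prop}
    (hP : ∀ (E : Type) (V : Type v) [Field E] [IsAlgClosed E] [AddCommGroup V] [Module E V]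
      [FiniteDimensional E V] [Nontrivial V] [CharP E r] (ρ : G →* Module.End E V),
      Ctx ρ z r → P) : P := by
  refine elem_ctx_add (r := r) (V₀ := Additive A) ?_ (fun g => (act g).toAdditive) ?_ ?_ ?_
    hz2 hz1 hP
  · intro a
    change Additive.ofMul ((Additive.toMul a) ^ r) = 0
    rw [hrA]
    rfl
  · intro v
    change Additive.ofMul (act 1 (Additive.toMul v)) = v
    rw [map_one]
    rfl
  · intro g h v
    change Additive.ofMul (act (g * h) (Additive.toMul v)) =
      Additive.ofMul (act g (act h (Additive.toMul v)))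
    rw [map_mul]
    rfl
  · intro g hg a ha
    exact hfpf g hg (Additive.toMul a) ha

/-- The hypotheses for an action on an abelian group. -/
theorem comm_ctx {K : Type v} {G : Type w} [Group K] [Finite K] [Nontrivial K] [Group G]
    (hcomm : ∀ a b : K, a * b = b * a) (act : G →* MulAut K)
    (hfpf : ∀ g : G, g ≠ 1 → ∀ k : K, act g k = k → k = 1) {z : G} (hz2 : z ^ 2 = 1) (hz1 : z ≠ 1)
    {P : Prop}
    (hP : ∀ (E : Type) (V : Type v) [Field E] [IsAlgClosed E] [AddCommGroup V] [Module E V]
      [FiniteDimensional E V] [Nontrivial V] (r : ℕ) [Fact r.Prime] [CharP E r]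
      (ρ : G →* Module.End E V), Ctx ρ z r → P) : P := by
  have hr1 : Nat.card K ≠ 1 := Finite.one_lt_card_iff_nontrivial.mpr inferInstance |>.ne'
  let r := Nat.minFac (Nat.card K)
  haveI hr : Fact r.Prime := ⟨Nat.minFac_prime hr1⟩
  let A : Subgroup K :=
    { carrier := {k | k ^ r = 1}
      mul_mem' := fun {a b} ha hb => by
        change (a * b) ^ r = 1
        rw [Commute.mul_pow (hcomm a b), ha, hb, one_mul]
      one_mem' := one_pow r
      inv_mem' := fun {a} ha => by
        change a⁻¹ ^ r = 1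
        rw [inv_pow, ha, inv_one] }
  letI : CommGroup A :=
    { (inferInstance : Group A) with
      mul_comm := fun a b => Subtype.ext (hcomm a b) }
  obtain ⟨x, hx⟩ := exists_prime_orderOf_dvd_card' (G := K) r (Nat.minFac_dvd _)
  have hxA : x ^ r = 1 := by rw [← hx]; exact pow_orderOf_eq_one x
  haveI : Nontrivial A := by
    refine ⟨⟨⟨x, hxA⟩, 1, fun h => ?_⟩⟩
    have h1 : x = 1 := congrArg Subtype.val h
    rw [h1, orderOf_one] at hx
    exact hr.out.one_lt.ne hx
  let act₀ : G → MulAut A := fun g =>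
    { toFun := fun a => ⟨act g a, by
        change (act g a) ^ r = 1
        rw [← map_pow, show (a : K) ^ r = 1 from a.2, map_one]⟩
      invFun := fun a => ⟨(act g)⁻¹ a, by
        change ((act g)⁻¹ a) ^ r = 1
        rw [← map_pow, show (a : K) ^ r = 1 from a.2, map_one]⟩
      left_inv := fun a => Subtype.ext (by simp)
      right_inv := fun a => Subtype.ext (by simp)
      map_mul' := fun a b => Subtype.ext (by simp) }
  let act' : G →* MulAut A :=
    { toFun := act₀
      map_one' := by
        ext a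
        simp [act₀]
      map_mul' := fun g h => by
        ext a
        simp [act₀] }
  refine elem_ctx (r := r) (fun a => ?_) act' (fun g hg a ha => ?_) hz2 hz1
    (fun E V _ _ _ _ _ _ _ ρ C => hP E V r ρ C)
  · exact Subtype.ext a.2
  · have h1 : act g (a : K) = a := congrArg Subtype.val ha
    exact Subtype.ext (hfpf g hg a h1)

section FC

open Cfsg Cfsg.Agent.Lib.Frobenius.Theorem

/-- A Frobenius complement acts fixed-point-freely on the kernel. -/
theorem frob_act {G : Type w} [Group G] [Finite G]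
    (hFC : ∃ (L : Type) (_ : Group L) (_ : Finite L) (H : Subgroup L), IsFrobeniusComplement H ∧
      Nonempty (G ≃* H)) [Nontrivial G] {P : Prop}
    (hP : ∀ (K : Type) [Group K] [Finite K] [Nontrivial K] (act : G →* MulAut K),
      (∀ g : G, g ≠ 1 → ∀ k : K, act g k = k → k = 1) → P) : P := by
  obtain ⟨L, _, _, H, hH, ⟨e⟩⟩ := hFC
  have hc := kernel_isComplement' hH
  haveI : Nontrivial (kernel H) := by
    rw [Subgroup.nontrivial_iff_ne_bot]
    intro h
    apply hH.2.1
    rw [← Subgroup.index_eq_one, ← card_kernel hH, h]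
    simp
  refine hP (kernel H) ((MulAut.conjNormal (H := kernel H)).comp (H.subtype.comp e.toMonoidHom)) ?_
  intro g hg k hk
  by_contra hk1
  have h1 : (((e g : H) : L)) * (k : L) * ((e g : H) : L)⁻¹ = k := congrArg Subtype.val hk
  have hkH : (k : L) ∉ H := by
    intro hm
    apply hk1
    have h2 : (k : L) ∈ kernel H ⊓ H := ⟨k.2, hm⟩
    rw [kernel_inf_eq_bot hH] at h2
    exact Subtype.ext h2
  have h5 : (k : L)⁻¹ * ((e g : H) : L) * k = ((e g : H) : L) := by
    have h6 : ((e g : H) : L) * (k : L) = k * ((e g : H) : L) := mul_inv_eq_iff_eq_mul.mp h1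
    rw [mul_assoc, h6]
    group
  have h4 := Cfsg.Agent.Lib.Frobenius.Basic.eq_one_of_mem_of_inv_conj_mem hH hkH (e g).2
    (by rw [h5]; exact (e g).2)
  apply hg
  have h7 : e g = 1 := Subtype.ext h4
  exact (map_eq_one_iff e e.injective).mp h7

/-- The structure of non-solvable Frobenius complements, with extra information. -/
theorem fc_struct {G : Type w} [Group G] [Finite G] (hns : ¬ Group.IsSolvable G)
    (hFC : ∃ (L : Type) (_ : Group L) (_ : Finite L) (H : Subgroup L), IsFrobeniusComplement H ∧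
      Nonempty (G ≃* H)) :
    ∃ G₀ : Subgroup G, G₀.Normal ∧ (G₀.index = 1 ∨ G₀.index = 2) ∧
      ∃ S M : Subgroup G, S ⊔ M = G₀ ∧ S ⊓ M = ⊥ ∧ (∀ s ∈ S, ∀ x ∈ M, s * x = x * s) ∧
        Nonempty (S ≃* Matrix.SpecialLinearGroup (Fin 2) (ZMod 5)) ∧
        IsZGroup M ∧ (Nat.card M).Coprime 30 := by
  haveI : Nontrivial G := by
    by_contra h
    rw [not_nontrivial_iff_subsingleton] at h
    exact hns inferInstance
  refine frob_act hFC (fun K _ _ _ act hfpf => ?_)
  have h2 : 2 ∣ Nat.card G := by
    by_contra h2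
    haveI := isZGroup_of_odd act hfpf h2
    exact hns inferInstance
  obtain ⟨z, hz⟩ := exists_prime_orderOf_dvd_card' (p := 2) (G := G) h2
  have hz2 : z ^ 2 = 1 := by rw [← hz]; exact pow_orderOf_eq_one z
  have hz1 : z ≠ 1 := by
    rintro rfl
    rw [orderOf_one] at hz
    omega
  refine comm_ctx (abelian_of_even act hfpf h2) act hfpf hz2 hz1 ?_
  intro E V _ _ _ _ _ _ r _ _ ρ C
  obtain ⟨G₀, h1, h2, S, M, h3, h4, h5, h6, h7, h8, -, -⟩ := ctx_struct C hns
  exact ⟨G₀, h1, h2, S, M, h3, h4, h5, h6, h7, h8⟩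

end FC

end Cfsg.Agent.Lib.Zassen.CtxOf
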