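import Cfsg.Agent.Lib.PermMod.MinNormal

/-!
# Automorphisms of odd order of cyclic 2-groups and of generalized quaternion groups
-/

set_option autoImplicit false
set_option linter.unusedSectionVars false
set_option linter.style.haveILetI false

namespace Cfsg.Agent.Lib.Zassen.QuatAut

open QuaternionGroup

/-- Automorphisms of odd order of a cyclic 2-group are trivial. -/
theorem cyclic_odd_aut {A : Type*} [Group A] [Finite A] [IsCyclic A] (hA : IsPGroup 2 A)
    (σ : MulAut A) {r : ℕ} (hr : Odd r) (hσ : σ ^ r = 1) : σ = 1 := by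
  obtain ⟨k, hk⟩ := IsPGroup.iff_card.mp hA
  have h1 : orderOf σ ∣ r := orderOf_dvd_of_pow_eq_one hσ
  have h2 : orderOf σ ∣ Nat.card (MulAut A) := orderOf_dvd_natCard σ
  rw [IsCyclic.card_mulAut, hk] at h2
  obtain ⟨t, -, ht⟩ : ∃ t ≤ k, Nat.totient (2 ^ k) = 2 ^ t := by
    rcases k with _ | k
    · exact ⟨0, by simp, by simp⟩
    · refine ⟨k, by omega, ?_⟩
      rw [Nat.totient_prime_pow_succ Nat.prime_two]
      simp
  rw [ht] at h2
  obtain ⟨s, -, hs⟩ := (Nat.dvd_prime_pow Nat.prime_two).mp h2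
  have h3 : s = 0 := by
    by_contra h0
    have : 2 ∣ orderOf σ := by
      rw [hs]
      exact dvd_pow_self 2 h0
    have h4 : 2 ∣ r := this.trans h1
    exact (Nat.not_even_iff_odd.mpr hr) (even_iff_two_dvd.mpr h4)
  rw [h3, pow_zero] at hs
  exact orderOf_eq_one_iff.mp hs

variable {m : ℕ}

theorem a_pow (j : ZMod (2 * m)) (k : ℕ) : (a j : QuaternionGroup m) ^ k = a ((k : ZMod (2 * m)) * j) := by
  induction k with
  | zero => rw [pow_zero, Nat.cast_zero, zero_mul, a_zero]
  | succ k ih =>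
    rw [pow_succ, ih, a_mul_a]
    congr 1
    push_cast
    ring

theorem exists_image_a_one [NeZero m] (hm : m ≠ 2) (σ : MulAut (QuaternionGroup m)) :
    ∃ j, σ (a 1) = a j := by
  cases h : σ (a 1) with
  | a j => exact ⟨j, rfl⟩
  | xa j =>
    exfalso
    have e : orderOf (σ (a 1)) = orderOf (a 1 : QuaternionGroup m) := MulEquiv.orderOf_eq σ _
    rw [h, orderOf_xa, orderOf_a_one] at e
    omega

theorem image_a [NeZero m] (σ : MulAut (QuaternionGroup m)) {j : ZMod (2 * m)}
    (hj : σ (a 1) = a j) (i : ZMod (2 * m)) : σ (a i) = a (j * i) := by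
  haveI : NeZero (2 * m) := ⟨by
    have := NeZero.ne m
    omega⟩
  have e : (a i : QuaternionGroup m) = (a 1) ^ (i.val) := by
    rw [a_one_pow, ZMod.natCast_zmod_val]
  rw [e, map_pow, hj, a_pow, ZMod.natCast_zmod_val, mul_comm]

theorem pow_image_a [NeZero m] (σ : MulAut (QuaternionGroup m)) {j : ZMod (2 * m)}
    (hj : σ (a 1) = a j) (k : ℕ) (i : ZMod (2 * m)) : (σ ^ k) (a i) = a (j ^ k * i) := by
  induction k generalizing i with
  | zero => simp
  | succ k ih =>
    rw [pow_succ, MulAut.mul_apply, image_a σ hj, ih]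
    congr 1
    ring

theorem pow_image_xa [NeZero m] (σ : MulAut (QuaternionGroup m)) {j : ZMod (2 * m)}
    (hj : ∀ i, σ (xa i) = xa (j + i)) (k : ℕ) (i : ZMod (2 * m)) :
    (σ ^ k) (xa i) = xa ((k : ZMod (2 * m)) * j + i) := by
  induction k generalizing i with
  | zero => simp
  | succ k ih =>
    rw [pow_succ, MulAut.mul_apply, hj, ih]
    congr 1
    push_cast
    ring

theorem quat_large_odd_aut (n : ℕ) (hn : 2 ≤ n) (σ : MulAut (QuaternionGroup (2 ^ n))) {r : ℕ}
    (hr : Odd r) (hσ : σ ^ r = 1) : σ = 1 := by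
  haveI : NeZero (2 * 2 ^ n) := ⟨by positivity⟩
  have hm : 2 ^ n ≠ 2 := by
    intro h
    have : 2 ^ 2 ≤ 2 ^ n := Nat.pow_le_pow_right (by norm_num) hn
    omega
  obtain ⟨j, hj⟩ := exists_image_a_one hm σ
  have hjr : j ^ r = 1 := by
    have e := pow_image_a σ hj r 1
    rw [hσ, mul_one] at e
    exact (a.inj e).symm
  have hr0 : r ≠ 0 := by
    rintro rfl
    simp at hr
  -- `j = 1`
  have hj1 : j = 1 := by
    let u : (ZMod (2 * 2 ^ n))ˣ := Units.ofPowEqOne j r hjr hr0
    have hu : u ^ r = 1 := Units.pow_ofPowEqOne hjr hr0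
    have h1 : orderOf u ∣ r := orderOf_dvd_of_pow_eq_one hu
    have h2 : orderOf u ∣ Nat.card (ZMod (2 * 2 ^ n))ˣ := orderOf_dvd_natCard u
    have e0 : Nat.totient (2 * 2 ^ n) = 2 ^ n := by
      rw [(show 2 * 2 ^ n = 2 ^ (n + 1) by ring), Nat.totient_prime_pow_succ Nat.prime_two]
      simp
    rw [Nat.card_eq_fintype_card, ZMod.card_units_eq_totient, e0] at h2
    have h3 : Nat.Coprime r (2 ^ n) := Nat.Coprime.pow_right n (Nat.coprime_two_right.mpr hr)
    have h4 : orderOf u = 1 := Nat.eq_one_of_dvd_coprimes h3 h1 h2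
    have h5 : u = 1 := orderOf_eq_one_iff.mp h4
    have : (u : ZMod (2 * 2 ^ n)) = j := rfl
    rw [← this, h5]
    rfl
  subst hj1
  have hfix : ∀ i, σ (a i) = a i := fun i => by rw [image_a σ hj, one_mul]
  -- the image of `xa 0`
  obtain ⟨j', hj'⟩ : ∃ j', σ (xa 0) = xa j' := by
    cases h : σ (xa 0) with
    | xa j' => exact ⟨j', rfl⟩
    | a j' =>
      exfalso
      rw [← hfix j'] at h
      have := σ.injective h
      cases this
  have hxa : ∀ i, σ (xa i) = xa (j' + i) := by
    intro i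
    have : (xa i : QuaternionGroup (2 ^ n)) = xa 0 * a i := by
      rw [xa_mul_a, zero_add]
    rw [this, map_mul, hj', hfix, xa_mul_a]
  have hj'0 : j' = 0 := by
    have e := pow_image_xa σ hxa r 0
    rw [hσ, add_zero] at e
    have e2 : (r : ZMod (2 * 2 ^ n)) * j' = 0 := (xa.inj e).symm
    have hcop : Nat.Coprime r (2 * 2 ^ n) := by
      rw [(show 2 * 2 ^ n = 2 ^ (n + 1) by ring)]
      exact Nat.Coprime.pow_right _ (Nat.coprime_two_right.mpr hr)
    have hu := ZMod.coe_unitOfCoprime r hcop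
    rw [← hu] at e2
    exact (Units.mul_right_eq_zero _).mp e2
  subst hj'0
  ext x
  cases x with
  | a i => simpa using hfix i
  | xa i => simpa using hxa i

/-- Automorphisms of odd order of generalized quaternion groups. -/
theorem quat_odd_aut (n : ℕ) (σ : MulAut (QuaternionGroup (2 ^ n))) {r : ℕ}
    (hr : Odd r) (hσ : σ ^ r = 1) : σ = 1 ∨ orderOf σ = 3 := by
  obtain rfl | rfl | hn : n = 0 ∨ n = 1 ∨ 2 ≤ n := by omega
  · left
    haveI : IsCyclic (QuaternionGroup (2 ^ 0)) := quaternionGroup_one_isCyclic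
    refine cyclic_odd_aut (IsPGroup.of_card (n := 2) ?_) σ hr hσ
    rw [Nat.card_eq_fintype_card, QuaternionGroup.card]
    norm_num
  · have h1 : orderOf σ ∣ r := orderOf_dvd_of_pow_eq_one hσ
    have h2 : orderOf σ ∣ 24 := (orderOf_dvd_natCard σ).trans
      Cfsg.Agent.Lib.PermMod.MinNormal.card_mulAut_quaternion_dvd
    have h3 : Nat.Coprime (orderOf σ) 8 := by
      have : Nat.Coprime r 8 := (show 8 = 2 ^ 3 by norm_num) ▸
        Nat.Coprime.pow_right 3 (Nat.coprime_two_right.mpr hr)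
      exact Nat.Coprime.coprime_dvd_left h1 this
    have h4 : orderOf σ ∣ 3 := h3.dvd_of_dvd_mul_left (by simpa using h2)
    rcases (Nat.dvd_prime Nat.prime_three).mp h4 with h5 | h5
    · left
      exact orderOf_eq_one_iff.mp h5
    · right
      exact h5
  · left
    exact quat_large_odd_aut n hn σ hr hσ

end Cfsg.Agent.Lib.Zassen.QuatAut
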