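import Cfsg.Agent.Lib.Zassen.Tau
import Cfsg.Agent.S0016

/-!
# Unique subgroups of prime order and Sylow subgroups of fixed-point-free linear groups; transfer
-/

set_option autoImplicit false
set_option linter.unusedSectionVars false
set_option linter.style.haveILetI false

namespace Cfsg.Agent.Lib.Zassen.Unique

open Module Subgroup
open Cfsg.Agent.Lib.Zassen.Basic

section Fpf

variable {E V G : Type*} [Field E] [AddCommGroup V] [Module E V] [Group G]
  {ρ : G →* Module.End E V}

theorem rho_pow_eigen {c : G} {v : V} {ζ : E} (h : ρ c v = ζ • v) (i : ℕ) :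
    ρ (c ^ i) v = ζ ^ i • v := by
  induction i with
  | zero => simp
  | succ i ih =>
    rw [pow_succ, map_mul, Module.End.mul_apply, h, map_smul, ih, smul_smul, pow_succ, mul_comm]

theorem pow_of_comm [IsAlgClosed E] [FiniteDimensional E V] [Nontrivial V] (hρ : IsFPF ρ) {q : ℕ}
    [hq : Fact q.Prime] {c x : G} (hc : c ≠ 1) (hcq : c ^ q = 1) (hxq : x ^ q = 1)
    (hcomm : c * x = x * c) : ∃ k : ℕ, x = c ^ k := by
  obtain ⟨v, ζ, ξ, hv, h1, h2⟩ := exists_common_eigenvector (ρ c) (ρ x)
    (by rw [← map_mul, hcomm, map_mul])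
  have hζq : ζ ^ q = 1 := by
    have e := rho_pow_eigen h1 q
    rw [hcq, map_one] at e
    have e' : (ζ ^ q - 1) • v = 0 := by
      rw [sub_smul, ← e, one_smul]
      simp
    exact sub_eq_zero.mp ((smul_eq_zero.mp e').resolve_right hv)
  have hξq : ξ ^ q = 1 := by
    have e := rho_pow_eigen h2 q
    rw [hxq, map_one] at e
    have e' : (ξ ^ q - 1) • v = 0 := by
      rw [sub_smul, ← e, one_smul]
      simp
    exact sub_eq_zero.mp ((smul_eq_zero.mp e').resolve_right hv)
  have hζ1 : ζ ≠ 1 := by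
    rintro rfl
    rw [one_smul] at h1
    exact hc (eq_one_of_fix hρ hv h1)
  have hord : orderOf ζ = q := orderOf_eq_prime hζq hζ1
  have hprim : IsPrimitiveRoot ζ q := hord ▸ IsPrimitiveRoot.orderOf ζ
  haveI : NeZero q := ⟨hq.out.ne_zero⟩
  obtain ⟨i, -, hi⟩ := hprim.eq_pow_of_pow_eq_one hξq
  refine ⟨i, ?_⟩
  have h3 : (c ^ i)⁻¹ * x = 1 := by
    apply eq_one_of_fix hρ hv
    have h4 := rho_pow_eigen h1 i
    have h5 : ρ (c ^ i)⁻¹ (ρ (c ^ i) v) = v := by
      rw [← Module.End.mul_apply, ← map_mul, inv_mul_cancel, map_one]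
      rfl
    rw [map_mul, Module.End.mul_apply, h2, ← hi, ← h4, h5]
  exact (inv_mul_eq_one.mp h3).symm

theorem exists_gen_of_card {Q : Type*} [Group Q] [Finite Q] {q : ℕ} [hq : Fact q.Prime]
    (H : Subgroup Q) (hH : Nat.card H = q) :
    ∃ x : Q, x ≠ 1 ∧ x ^ q = 1 ∧ H = zpowers x := by
  haveI : Nontrivial H := by
    apply (Finite.one_lt_card_iff_nontrivial).mp
    rw [hH]
    exact hq.out.one_lt
  obtain ⟨x, hx⟩ := exists_ne (1 : H)
  have hx1 : (x : Q) ≠ 1 := fun h => hx (Subtype.ext h)
  have hxq : (x : Q) ^ q = 1 := by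
    have := pow_card_eq_one' (x := x)
    rw [hH] at this
    simpa using congrArg Subtype.val this
  refine ⟨x, hx1, hxq, ?_⟩
  symm
  apply Subgroup.eq_of_le_of_card_ge
  · rw [zpowers_le]
    exact x.2
  · rw [hH, Nat.card_zpowers, orderOf_eq_prime hxq hx1]

theorem unique_of_fpf [IsAlgClosed E] [FiniteDimensional E V] [Nontrivial V] [Finite G]
    (hρ : IsFPF ρ) {q : ℕ} [hq : Fact q.Prime] (hG : IsPGroup q G) :
    ∀ H K : Subgroup G, Nat.card H = q → Nat.card K = q → H = K := by
  intro H K hH hK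
  obtain ⟨x, hx1, hxq, rfl⟩ := exists_gen_of_card H hH
  haveI : Nontrivial G := ⟨⟨x, 1, hx1⟩⟩
  -- a central element of order `q`
  haveI hc := hG.center_nontrivial
  have hcc : q ∣ Nat.card (center G) := by
    obtain ⟨k, hk⟩ := IsPGroup.iff_card.mp (hG.to_subgroup (center G))
    rw [hk]
    have : k ≠ 0 := by
      rintro rfl
      rw [pow_zero] at hk
      exact (Finite.one_lt_card_iff_nontrivial.mpr hc).ne' hk
    exact dvd_pow_self q this
  obtain ⟨c, hc'⟩ := exists_prime_orderOf_dvd_card' (G := center G) q hcc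
  have hcq : (c : G) ^ q = 1 := by
    have := pow_orderOf_eq_one c
    rw [hc'] at this
    simpa using congrArg Subtype.val this
  have hc1 : (c : G) ≠ 1 := by
    intro h
    have : c = 1 := Subtype.ext h
    rw [this, orderOf_one] at hc'
    exact hq.out.one_lt.ne hc'
  have key : ∀ H : Subgroup G, Nat.card H = q → H = zpowers (c : G) := by
    intro H hH
    obtain ⟨y, hy1, hyq, rfl⟩ := exists_gen_of_card H hH
    obtain ⟨k, hk⟩ := pow_of_comm hρ hc1 hcq hyq (mem_center_iff.mp c.2 y).symm
    apply Subgroup.eq_of_le_of_card_ge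
    · rw [zpowers_le, hk]
      exact Subgroup.pow_mem _ (mem_zpowers _) _
    · rw [hH, Nat.card_zpowers, orderOf_eq_prime hcq hc1]
  rw [key _ hH, key _ hK]

theorem fpf_comp_subtype (hρ : IsFPF ρ) (Q : Subgroup G) : IsFPF (ρ.comp Q.subtype) := by
  intro g hg v hv
  exact hρ g (fun h => hg (Subtype.ext h)) v hv

/-- Subgroups of prime power order of a fixed-point-free linear group. -/
theorem subgroup_alt [IsAlgClosed E] [FiniteDimensional E V] [Nontrivial V] [Finite G]
    (hρ : IsFPF ρ) {q : ℕ} [hq : Fact q.Prime] (Q : Subgroup G) (hQ : IsPGroup q Q) :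
    IsCyclic Q ∨ (q = 2 ∧ ∃ n : ℕ, Nonempty (Q ≃* QuaternionGroup (2 ^ n))) :=
  Cfsg.Agent.S0016.result q hQ (unique_of_fpf (fpf_comp_subtype hρ Q) hQ)

end Fpf

section Perf

variable {G : Type*} [Group G]

theorem perf_hom_trivial {A : Type*} [CommGroup A] (hperf : commutator G = ⊤) (f : G →* A) (g : G) :
    f g = 1 := by
  have h1 : commutator G ≤ f.ker := by
    rw [commutator_def, Subgroup.commutator_le]
    intro a _ b _
    simp [commutatorElement_def, mul_comm]
  have h2 : g ∈ commutator G := by rw [hperf]; exact mem_top g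
  exact h1 h2

theorem perf_commutator_map {Q : Type*} [Group Q] (hperf : commutator G = ⊤) (f : G →* Q)
    (hf : Function.Surjective f) : commutator Q = ⊤ := by
  rw [commutator_def, ← Subgroup.map_top_of_surjective f hf, ← Subgroup.map_commutator,
    ← commutator_def, hperf]

theorem perf_solv {Q : Type*} [Group Q] (hperf : commutator G = ⊤) (f : G →* Q)
    (hf : Function.Surjective f) [h : Group.IsSolvable Q] : Subsingleton Q := by
  by_contra hns
  rw [not_subsingleton_iff_nontrivial] at hns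
  have := IsSolvable.commutator_lt_top_of_nontrivial Q
  rw [perf_commutator_map hperf f hf] at this
  exact lt_irrefl _ this

/-- Transfer: a central element of a commutative Sylow subgroup of a perfect group is trivial. -/
theorem false_of_central [Finite G] (hperf : commutator G = ⊤) {q : ℕ} [hq : Fact q.Prime]
    (P : Sylow q G) (hcomm : ∀ x ∈ (P : Subgroup G), ∀ y ∈ (P : Subgroup G), x * y = y * x) {a : G}
    (haP : a ∈ (P : Subgroup G)) (hac : ∀ g, g * a = a * g) (ha1 : a ≠ 1) : False := by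
  letI : CommGroup (P : Subgroup G) :=
    { (inferInstance : Group (P : Subgroup G)) with
      mul_comm := fun x y => Subtype.ext (hcomm x x.2 y y.2) }
  let ϕ : (P : Subgroup G) →* (P : Subgroup G) := MonoidHom.id _
  haveI : (P : Subgroup G).FiniteIndex := inferInstance
  have hV := perf_hom_trivial hperf ϕ.transfer a
  have hV2 := ϕ.transfer_eq_pow a (by
    intro k g₀ _
    have : a ^ k * g₀ = g₀ * a ^ k := by
      have hk : Commute g₀ (a ^ k) := (show Commute g₀ a from hac g₀).pow_right k
      exact hk.symm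
    rw [mul_assoc, this]
    group)
  rw [hV] at hV2
  have h3 : a ^ (P : Subgroup G).index = 1 := by
    have := congrArg Subtype.val hV2
    simpa [ϕ] using this.symm
  have h4 : orderOf a ∣ (P : Subgroup G).index := orderOf_dvd_of_pow_eq_one h3
  have hP := P.isPGroup'
  obtain ⟨k, hk⟩ := hP ⟨a, haP⟩
  have h5 : a ^ q ^ k = 1 := by simpa using congrArg Subtype.val hk
  obtain ⟨s, -, hs⟩ := (Nat.dvd_prime_pow hq.out).mp (orderOf_dvd_of_pow_eq_one h5)
  have hs0 : s ≠ 0 := by
    rintro rfl
    rw [pow_zero] at hs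
    exact ha1 (orderOf_eq_one_iff.mp hs)
  apply P.not_dvd_index
  exact (dvd_pow_self q hs0).trans (hs ▸ h4)

end Perf

end Cfsg.Agent.Lib.Zassen.Unique
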