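import Mathlib

/-!
# Fixed-point-free representations: basic operator identities

Elements of order `3` satisfy a quadratic equation; this produces invariant planes for pairs of such
elements (the heart of the proof of Zassenhaus's theorem on perfect Frobenius complements).
-/

set_option autoImplicit false
set_option linter.unusedSectionVars false
set_option linter.style.haveILetI false

namespace Cfsg.Agent.Lib.Zassen.Basic

open Module

variable {E V G : Type*} [Field E] [AddCommGroup V] [Module E V] [Group G]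

/-- A fixed-point-free representation. -/
def IsFPF (ρ : G →* Module.End E V) : Prop :=
  ∀ g : G, g ≠ 1 → ∀ v : V, ρ g v = v → v = 0

variable {ρ : G →* Module.End E V}

theorem eq_one_of_fix (h : IsFPF ρ) {g : G} {v : V} (hv : v ≠ 0) (hg : ρ g v = v) : g = 1 := by
  by_contra hne
  exact hv (h g hne v hg)

theorem inj_of_nontrivial (h : IsFPF ρ) [Nontrivial V] {g g' : G} (hgg : ρ g = ρ g') : g = g' := by
  obtain ⟨v, hv⟩ := exists_ne (0 : V)
  have h1 : g⁻¹ * g' = 1 := by
    apply eq_one_of_fix h hv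
    rw [map_mul, ← hgg, ← map_mul, inv_mul_cancel, map_one]
    rfl
  exact inv_mul_eq_one.mp h1

theorem rel_three_apply (h : IsFPF ρ) {a : G} (h3 : a ^ 3 = 1) (h1 : a ≠ 1) (v : V) :
    ρ a (ρ a v) + ρ a v + v = 0 := by
  apply h a h1
  have h2 : ρ a (ρ a (ρ a v)) = v := by
    have : ρ (a ^ 3) v = v := by rw [h3, map_one]; rfl
    rwa [pow_succ, pow_two, map_mul, map_mul] at this
  simp only [map_add, h2]
  abel

theorem rel_three (h : IsFPF ρ) {a : G} (h3 : a ^ 3 = 1) (h1 : a ≠ 1) :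
    ρ a * ρ a + ρ a + 1 = 0 := by
  ext v
  exact rel_three_apply h h3 h1 v

theorem rel_two_apply (h : IsFPF ρ) {t : G} (h2 : t ^ 2 = 1) (h1 : t ≠ 1) (v : V) :
    ρ t v = -v := by
  have key : ρ t (ρ t v + v) = ρ t v + v := by
    have h3 : ρ t (ρ t v) = v := by
      have : ρ (t ^ 2) v = v := by rw [h2, map_one]; rfl
      rwa [pow_two, map_mul] at this
    rw [map_add, h3, add_comm]
  have := h t h1 _ key
  exact eq_neg_of_add_eq_zero_left this

theorem invol_unique (h : IsFPF ρ) [Nontrivial V] {t t' : G} (h2 : t ^ 2 = 1) (h1 : t ≠ 1)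
    (h2' : t' ^ 2 = 1) (h1' : t' ≠ 1) : t = t' := by
  apply inj_of_nontrivial h
  ext v
  rw [rel_two_apply h h2 h1, rel_two_apply h h2' h1']

/-- A common eigenvector forces commutation. -/
theorem comm_of_common_eigenvector (h : IsFPF ρ) {a b : G} {v : V} (hv : v ≠ 0) {α β : E}
    (ha : ρ a v = α • v) (hb : ρ b v = β • v) : a * b = b * a := by
  have hai : ρ a⁻¹ v = α⁻¹ • v := by
    have hα : α ≠ 0 := by
      intro h0
      rw [h0, zero_smul] at ha
      have h1 : ρ a⁻¹ (ρ a v) = v := by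
        rw [← Module.End.mul_apply, ← map_mul, inv_mul_cancel, map_one]; rfl
      rw [ha, map_zero] at h1
      exact hv h1.symm
    have h1 : ρ a⁻¹ (ρ a v) = v := by
      rw [← Module.End.mul_apply, ← map_mul, inv_mul_cancel, map_one]; rfl
    rw [ha, map_smul] at h1
    rw [← h1, smul_smul] 
    rw [inv_mul_cancel₀ hα, one_smul, h1]
  have hbi : ρ b⁻¹ v = β⁻¹ • v := by
    have hβ : β ≠ 0 := by
      intro h0
      rw [h0, zero_smul] at hb
      have h1 : ρ b⁻¹ (ρ b v) = v := by
        rw [← Module.End.mul_apply, ← map_mul, inv_mul_cancel, map_one]; rfl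
      rw [hb, map_zero] at h1
      exact hv h1.symm
    have h1 : ρ b⁻¹ (ρ b v) = v := by
      rw [← Module.End.mul_apply, ← map_mul, inv_mul_cancel, map_one]; rfl
    rw [hb, map_smul] at h1
    rw [← h1, smul_smul] 
    rw [inv_mul_cancel₀ hβ, one_smul, h1]
  have hc : a⁻¹ * b⁻¹ * a * b = 1 := by
    apply eq_one_of_fix h hv
    have hαne : α ≠ 0 := by
      intro h0
      rw [h0, zero_smul] at ha
      have h1 : ρ a⁻¹ (ρ a v) = v := by
        rw [← Module.End.mul_apply, ← map_mul, inv_mul_cancel, map_one]; rfl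
      rw [ha, map_zero] at h1
      exact hv h1.symm
    have hβne : β ≠ 0 := by
      intro h0
      rw [h0, zero_smul] at hb
      have h1 : ρ b⁻¹ (ρ b v) = v := by
        rw [← Module.End.mul_apply, ← map_mul, inv_mul_cancel, map_one]; rfl
      rw [hb, map_zero] at h1
      exact hv h1.symm
    simp only [map_mul, Module.End.mul_apply, hb, map_smul, ha, hai, hbi, smul_smul]
    have : β * (α * (β⁻¹ * α⁻¹)) = 1 := by field_simp
    rw [this, one_smul]
  have : a⁻¹ * b⁻¹ * a * b = (b * a)⁻¹ * (a * b) := by group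
  rw [this] at hc
  exact (inv_mul_eq_one.mp hc).symm

/-- Two elements of `ρ` which commute and have prime order `p` generate a cyclic group (here: in
the form needed for `p = 3` over an algebraically closed field). -/
theorem exists_common_eigenvector [IsAlgClosed E] [FiniteDimensional E V] [Nontrivial V]
    (A B : Module.End E V) (hAB : A * B = B * A) :
    ∃ (v : V) (α β : E), v ≠ 0 ∧ A v = α • v ∧ B v = β • v := by
  obtain ⟨α, hα⟩ := Module.End.exists_eigenvalue A
  let W := Module.End.eigenspace A α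
  have hW : W ≠ ⊥ := hα
  have hinv : ∀ w ∈ W, B w ∈ W := by
    intro w hw
    rw [Module.End.mem_eigenspace_iff] at hw ⊢
    have : A (B w) = B (A w) := by
      rw [← Module.End.mul_apply, hAB, Module.End.mul_apply]
    rw [this, hw, map_smul]
  let B' : Module.End E W := B.restrict hinv
  haveI : Nontrivial W := Submodule.nontrivial_iff_ne_bot.mpr hW
  obtain ⟨β, hβ⟩ := Module.End.exists_eigenvalue B'
  obtain ⟨w, hw⟩ := hβ.exists_hasEigenvector
  refine ⟨w, α, β, ?_, ?_, ?_⟩
  · intro h0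
    exact hw.2 (Subtype.ext h0)
  · exact (Module.End.mem_eigenspace_iff.mp w.2)
  · have := Module.End.mem_eigenspace_iff.mp hw.1
    exact congrArg Subtype.val this

/-- The central element of the algebra generated by two elements of order `3`. -/
theorem central_comm {R : Type*} [Ring R] {A B : R} (hA : A * A + A + 1 = 0) (hB : B * B + B + 1 = 0) :
    A * (A * B + B * A + A + B + 1) = (A * B + B * A + A + B + 1) * A := by
  have hA' : A * A = -A - 1 := by
    have := hA
    rw [add_assoc, add_eq_zero_iff_eq_neg] at this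
    rw [this]; noncomm_ring
  have e1 : A * (A * B) = (A * A) * B := by noncomm_ring
  have e2 : B * A * A = B * (A * A) := by noncomm_ring
  calc A * (A * B + B * A + A + B + 1) = A * (A * B) + A * B * A + A * A + A * B + A := by noncomm_ring
    _ = (-A - 1) * B + A * B * A + A * A + A * B + A := by rw [e1, hA']
    _ = A * B * A + B * (-A - 1) + A * A + B * A + A := by noncomm_ring
    _ = A * B * A + B * (A * A) + A * A + B * A + A := by rw [hA']
    _ = (A * B + B * A + A + B + 1) * A := by noncomm_ring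

/-- A span of two independent vectors is a plane. -/
theorem finrank_span_pair {v w : V} (hv : v ≠ 0) (hw : ∀ c : E, w ≠ c • v) :
    Module.finrank E (Submodule.span E ({v, w} : Set V)) = 2 := by
  have hli : LinearIndependent E ![v, w] := by
    rw [LinearIndependent.pair_iff]
    intro s t hst
    have ht : t = 0 := by
      by_contra ht
      apply hw (-(t⁻¹ * s))
      have h1 : w = t⁻¹ • (t • w) := by rw [smul_smul, inv_mul_cancel₀ ht, one_smul]
      rw [h1, eq_neg_of_add_eq_zero_right hst, smul_neg, neg_smul, smul_smul]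
    rw [ht, zero_smul, add_zero] at hst
    refine ⟨?_, ht⟩
    exact (smul_eq_zero.mp hst).resolve_right hv
  have h2 := finrank_span_eq_card hli
  have h3 : Set.range ![v, w] = {v, w} := by
    simp [Matrix.range_cons, Set.pair_comm]
  rw [h3] at h2
  simpa using h2

/-- Invariance of a span of two vectors. -/
theorem invariant_span_pair {v w : V} (T : Module.End E V)
    (h1 : T v ∈ Submodule.span E ({v, w} : Set V)) (h2 : T w ∈ Submodule.span E ({v, w} : Set V)) :
    ∀ x ∈ Submodule.span E ({v, w} : Set V), T x ∈ Submodule.span E ({v, w} : Set V) := by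
  intro x hx
  have : Submodule.span E ({v, w} : Set V) ≤ (Submodule.span E ({v, w} : Set V)).comap T := by
    rw [Submodule.span_le]
    rintro y (rfl | rfl)
    · exact h1
    · exact h2
  exact this hx

theorem mem_span_pair_of {v w : V} (a b : E) : a • v + b • w ∈ Submodule.span E ({v, w} : Set V) :=
  Submodule.mem_span_pair.mpr ⟨a, b, rfl⟩

/-- An invariant plane for two non-commuting elements of order `3`. -/
theorem exists_plane_pair [IsAlgClosed E] [FiniteDimensional E V] [Nontrivial V] (h : IsFPF ρ)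
    {a b : G} (ha3 : a ^ 3 = 1) (ha1 : a ≠ 1) (hb3 : b ^ 3 = 1) (hb1 : b ≠ 1) (hab : a * b ≠ b * a) :
    ∃ W : Submodule E V, Module.finrank E W = 2 ∧
      (∀ w ∈ W, ρ a w ∈ W) ∧ (∀ w ∈ W, ρ b w ∈ W) := by
  set A := ρ a with hA
  set B := ρ b with hB
  have hrA := rel_three h ha3 ha1
  have hrB := rel_three h hb3 hb1
  let S : Module.End E V := A * B + B * A + A + B + 1
  have hAS : A * S = S * A := central_comm hrA hrB
  obtain ⟨v, α, σ, hv, hvA, hvS⟩ := exists_common_eigenvector A S hAS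
  have hB2 : B (B v) = (-1 : E) • v + (-1 : E) • B v := by
    have := rel_three_apply h hb3 hb1 v
    rw [← hB] at this
    rw [add_assoc, add_eq_zero_iff_eq_neg] at this
    rw [this]
    simp only [neg_smul, one_smul]
    abel
  have hAB : A (B v) = (σ - α - 1) • v + (-α - 1) • B v := by
    have h1 : S v = A (B v) + B (A v) + A v + B v + v := rfl
    rw [hvS, hvA, map_smul] at h1
    have h2 : A (B v) = σ • v - α • B v - α • v - B v - v := by
      rw [h1]; abel
    rw [h2]
    simp only [sub_smul, add_smul, one_smul, neg_smul]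
    abel
  have hind : ∀ c : E, B v ≠ c • v := by
    intro c hc
    exact hab (comm_of_common_eigenvector h hv hvA hc)
  refine ⟨Submodule.span E {v, B v}, finrank_span_pair hv hind, ?_, ?_⟩
  · apply invariant_span_pair
    · rw [hvA]
      have := mem_span_pair_of (E := E) (v := v) (w := B v) α 0
      simpa using this
    · rw [hAB]
      exact mem_span_pair_of _ _
  · apply invariant_span_pair
    · have := mem_span_pair_of (E := E) (v := v) (w := B v) 0 1
      simpa using this
    · rw [hB2]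
      exact mem_span_pair_of _ _

/-- The relation of `a`, `y` with `(a y)² = -1`. -/
theorem adj_rel {R : Type*} [Ring R] {A Y : R} (hA : A * A + A + 1 = 0) (hY : Y * Y + Y + 1 = 0)
    (h : (A * Y) * (A * Y) = -1) : A * Y + Y * A + A + Y + 1 = 0 := by
  have hA' : A * A = -A - 1 := by
    rw [add_assoc, add_eq_zero_iff_eq_neg] at hA
    rw [hA]; noncomm_ring
  have hY' : Y * Y = -Y - 1 := by
    rw [add_assoc, add_eq_zero_iff_eq_neg] at hY
    rw [hY]; noncomm_ring
  set R₀ := 1 + A + Y + Y * A with hR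
  have h1 : R₀ * (A * Y) = 1 := by
    have e : R₀ * (A * Y) = A * Y + (A * A) * Y + Y * A * Y + Y * (A * A) * Y := by
      rw [hR]; noncomm_ring
    rw [e, hA']
    have e2 : A * Y + (-A - 1) * Y + Y * A * Y + Y * (-A - 1) * Y = - Y - Y * Y := by noncomm_ring
    rw [e2, hY']
    noncomm_ring
  have h2 : R₀ = - (A * Y) := by
    calc R₀ = R₀ * ((A * Y) * (-(A * Y))) := by
          rw [mul_neg, h, neg_neg, mul_one]
      _ = (R₀ * (A * Y)) * (-(A * Y)) := by noncomm_ring
      _ = -(A * Y) := by rw [h1, one_mul]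
  have h3 : A * Y + Y * A + A + Y + 1 = R₀ + A * Y := by
    rw [hR]; abel
  rw [h3, h2]
  abel

/-- The converse. -/
theorem adj_rel_conv {R : Type*} [Ring R] {A Y : R} (hA : A * A + A + 1 = 0) (hY : Y * Y + Y + 1 = 0)
    (h : A * Y + Y * A + A + Y + 1 = 0) : (A * Y) * (A * Y) = -1 := by
  have hA' : A * A = -A - 1 := by
    rw [add_assoc, add_eq_zero_iff_eq_neg] at hA
    rw [hA]; noncomm_ring
  have hY' : Y * Y = -Y - 1 := by
    rw [add_assoc, add_eq_zero_iff_eq_neg] at hY
    rw [hY]; noncomm_ring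
  have e0 : A * Y = -(Y * A + A + Y + 1) := by
    have : A * Y + (Y * A + A + Y + 1) = 0 := by
      rw [← h]; abel
    exact eq_neg_of_add_eq_zero_left this
  calc (A * Y) * (A * Y) = A * Y * (-(Y * A + A + Y + 1)) := by rw [← e0]
    _ = -(A * (Y * Y) * A + A * Y * A + A * (Y * Y) + A * Y) := by noncomm_ring
    _ = -(A * (-Y - 1) * A + A * Y * A + A * (-Y - 1) + A * Y) := by rw [hY']
    _ = (A * A) + A := by noncomm_ring
    _ = -1 := by rw [hA']; noncomm_ring

/-- An invariant plane for `a`, `y₁`, `y₂` with `y₁, y₂` adjacent to `a`. -/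
theorem exists_plane_triple [IsAlgClosed E] [FiniteDimensional E V] [Nontrivial V] (h2 : (2 : E) ≠ 0)
    (h : IsFPF ρ) {a y₁ y₂ : G} (ha3 : a ^ 3 = 1) (ha1 : a ≠ 1) (hy₁3 : y₁ ^ 3 = 1) (hy₁1 : y₁ ≠ 1)
    (hy₂3 : y₂ ^ 3 = 1) (hy₂1 : y₂ ≠ 1)
    (hadj₁ : ρ a * ρ y₁ + ρ y₁ * ρ a + ρ a + ρ y₁ + 1 = 0)
    (hadj₂ : ρ a * ρ y₂ + ρ y₂ * ρ a + ρ a + ρ y₂ + 1 = 0)
    (hc₁ : a * y₁ ≠ y₁ * a) (hc₂ : a * y₂ ≠ y₂ * a) :
    ∃ W : Submodule E V, Module.finrank E W = 2 ∧
      (∀ w ∈ W, ρ a w ∈ W) ∧ (∀ w ∈ W, ρ y₁ w ∈ W) ∧ (∀ w ∈ W, ρ y₂ w ∈ W) := by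
  set A := ρ a with hA
  set Y₁ := ρ y₁ with hY₁
  set Y₂ := ρ y₂ with hY₂
  have hadj₁' : ∀ x, A (Y₁ x) = - Y₁ (A x) - A x - Y₁ x - x := by
    intro x
    have := congrArg (fun T : Module.End E V => T x) hadj₁
    simp only [LinearMap.add_apply, Module.End.mul_apply, Module.End.one_apply, LinearMap.zero_apply] at this
    linear_combination (norm := module) this
  have hadj₂' : ∀ x, A (Y₂ x) = - Y₂ (A x) - A x - Y₂ x - x := by
    intro x
    have := congrArg (fun T : Module.End E V => T x) hadj₂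
    simp only [LinearMap.add_apply, Module.End.mul_apply, Module.End.one_apply, LinearMap.zero_apply] at this
    linear_combination (norm := module) this
  have hsq₁ : ∀ x, Y₁ (Y₁ x) = - Y₁ x - x := by
    intro x
    have := rel_three_apply h hy₁3 hy₁1 x
    rw [← hY₁] at this
    linear_combination (norm := module) this
  have hsq₂ : ∀ x, Y₂ (Y₂ x) = - Y₂ x - x := by
    intro x
    have := rel_three_apply h hy₂3 hy₂1 x
    rw [← hY₂] at this
    linear_combination (norm := module) this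
  obtain ⟨ω, hω⟩ := Module.End.exists_eigenvalue A
  have hωrel : ω * ω + ω + 1 = 0 := by
    obtain ⟨u, hu⟩ := hω.exists_hasEigenvector
    have h1 := rel_three_apply h ha3 ha1 u
    have h3 := Module.End.mem_eigenspace_iff.mp hu.1
    rw [← hA, h3, map_smul, h3, smul_smul] at h1
    have h4 : (ω * ω + ω + 1) • u = 0 := by
      rw [add_smul, add_smul, one_smul]; exact h1
    exact (smul_eq_zero.mp h4).resolve_right hu.2
  let W₀ := Module.End.eigenspace A ω
  let g : Module.End E V := (2 * ω + 1) • (Y₁ * Y₂) + (1 + ω) • Y₁ + ω • Y₂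
  have hA₀ : ∀ v ∈ W₀, A v = ω • v := fun v hv => Module.End.mem_eigenspace_iff.mp hv
  have hAY₁ : ∀ v ∈ W₀, A (Y₁ v) = (-1 - ω) • Y₁ v + (-1 - ω) • v := by
    intro v hv
    rw [hadj₁', hA₀ v hv, map_smul]
    module
  have hAY₂ : ∀ v ∈ W₀, A (Y₂ v) = (-1 - ω) • Y₂ v + (-1 - ω) • v := by
    intro v hv
    rw [hadj₂', hA₀ v hv, map_smul]
    module
  have hginv : ∀ v ∈ W₀, g v ∈ W₀ := by
    intro v hv
    rw [Module.End.mem_eigenspace_iff]
    have e1 : A (Y₁ (Y₂ v)) = ω • Y₁ (Y₂ v) + (1 + ω) • Y₁ v + ω • Y₂ v + (1 + ω) • v := by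
      rw [hadj₁' (Y₂ v), hAY₂ v hv, map_add, map_smul, map_smul]
      module
    change A ((2 * ω + 1) • Y₁ (Y₂ v) + (1 + ω) • Y₁ v + ω • Y₂ v) =
      ω • ((2 * ω + 1) • Y₁ (Y₂ v) + (1 + ω) • Y₁ v + ω • Y₂ v)
    rw [map_add, map_add, map_smul, map_smul, map_smul, e1, hAY₁ v hv, hAY₂ v hv]
    module
  let g' : Module.End E W₀ := g.restrict hginv
  haveI : Nontrivial W₀ := Submodule.nontrivial_iff_ne_bot.mpr hω
  obtain ⟨lam, hlam⟩ := Module.End.exists_eigenvalue g'
  obtain ⟨w, hw⟩ := hlam.exists_hasEigenvector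
  set v₀ : V := (w : W₀).1 with hv₀
  have hv₀mem : v₀ ∈ W₀ := w.2
  have hv₀ne : v₀ ≠ 0 := fun h0 => hw.2 (Subtype.ext h0)
  have hgv : g v₀ = lam • v₀ := by
    have := Module.End.mem_eigenspace_iff.mp hw.1
    exact congrArg Subtype.val this
  have hgv' : (2 * ω + 1) • Y₁ (Y₂ v₀) + (1 + ω) • Y₁ v₀ + ω • Y₂ v₀ = lam • v₀ := hgv
  -- the vectors
  set x₁ := Y₁ v₀ with hx₁
  set x₂ := Y₂ v₀ with hx₂
  have hAv₀ : A v₀ = ω • v₀ := hA₀ v₀ hv₀mem
  have hind₁ : ∀ c : E, x₁ ≠ c • v₀ := fun c hc =>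
    hc₁ (comm_of_common_eigenvector h hv₀ne hAv₀ hc)
  have hind₂ : ∀ c : E, x₂ ≠ c • v₀ := fun c hc =>
    hc₂ (comm_of_common_eigenvector h hv₀ne hAv₀ hc)
  -- apply `Y₁`
  have e2 : (2 * ω + 1) • Y₁ (Y₁ x₂) + (1 + ω) • Y₁ x₁ + ω • Y₁ x₂ = lam • x₁ := by
    have := congrArg Y₁ hgv'
    simpa only [map_add, map_smul] using this
  rw [hsq₁ x₂, hsq₁ v₀] at e2
  have e3 : (2 : E) • x₂ = (((2 * ω + 1) * lam - 1) • x₁) + (((ω + 1) * lam + (2 * ω + 1) * (1 + ω)) • v₀) := by
    linear_combination (norm := module) (2 * ω + 1) • e2 + (ω + 1) • hgv' +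
      hωrel • ((3 : E) • x₂ + x₁)
  have hc₁' : (2 * ω + 1) * lam - 1 ≠ 0 := by
    intro h0
    rw [h0, zero_smul, zero_add] at e3
    apply hind₂ ((2 : E)⁻¹ * ((ω + 1) * lam + (2 * ω + 1) * (1 + ω)))
    rw [mul_smul, ← e3, smul_smul, inv_mul_cancel₀ h2, one_smul]
  set c₁ := (2 * ω + 1) * lam - 1 with hc₁def
  set c₀ := (ω + 1) * lam + (2 * ω + 1) * (1 + ω) with hc₀def
  let W : Submodule E V := Submodule.span E {v₀, x₁}
  have hv₀W : v₀ ∈ W := Submodule.subset_span (Set.mem_insert _ _)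
  have hx₁W : x₁ ∈ W := Submodule.subset_span (Set.mem_insert_of_mem _ rfl)
  have hx₂W : x₂ ∈ W := by
    have : x₂ = (2 : E)⁻¹ • (c₁ • x₁ + c₀ • v₀) := by
      rw [← e3, smul_smul, inv_mul_cancel₀ h2, one_smul]
    rw [this]
    exact W.smul_mem _ (W.add_mem (W.smul_mem _ hx₁W) (W.smul_mem _ hv₀W))
  have hx₁eq : x₁ = c₁⁻¹ • ((2 : E) • x₂ - c₀ • v₀) := by
    rw [e3, add_sub_cancel_right, smul_smul, inv_mul_cancel₀ hc₁', one_smul]
  refine ⟨W, finrank_span_pair hv₀ne hind₁, ?_, ?_, ?_⟩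
  · apply invariant_span_pair
    · rw [hAv₀]
      exact W.smul_mem _ hv₀W
    · rw [hAY₁ v₀ hv₀mem]
      exact W.add_mem (W.smul_mem _ hx₁W) (W.smul_mem _ hv₀W)
  · apply invariant_span_pair
    · exact hx₁W
    · rw [hsq₁ v₀]
      exact W.sub_mem (W.neg_mem hx₁W) hv₀W
  · apply invariant_span_pair
    · exact hx₂W
    · have e7 : Y₂ x₁ = c₁⁻¹ • ((2 : E) • (- x₂ - v₀) - c₀ • x₂) := by
        conv_lhs => rw [hx₁eq]
        rw [map_smul, map_sub, map_smul, map_smul, hsq₂ v₀]
      rw [e7]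
      exact W.smul_mem _ (W.sub_mem (W.smul_mem _ (W.sub_mem (W.neg_mem hx₂W) hv₀W))
        (W.smul_mem _ hx₂W))

end Cfsg.Agent.Lib.Zassen.Basic
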