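import Mathlib

/-!
# Finite checks in `S₄` and `S₅` on elements of order three
-/

set_option autoImplicit false
set_option maxRecDepth 100000
set_option synthInstance.maxSize 1000
set_option synthInstance.maxHeartbeats 0

namespace Cfsg.Agent.Lib.Zassen.Checks

/-- Elements of order three. -/
def O3 {G : Type*} [Group G] (x : G) : Prop := x ^ 3 = 1 ∧ x ≠ 1

instance {G : Type*} [Group G] [DecidableEq G] (x : G) : Decidable (O3 x) := by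
  unfold O3; infer_instance

/-- The product is an involution. -/
def Ad {G : Type*} [Group G] (x y : G) : Prop := (x * y) ^ 2 = 1 ∧ x * y ≠ 1

instance {G : Type*} [Group G] [DecidableEq G] (x y : G) : Decidable (Ad x y) := by
  unfold Ad; infer_instance

abbrev P4 := Equiv.Perm (Fin 4)
abbrev P5 := Equiv.Perm (Fin 5)

theorem c4_pair : ∀ x : P4, O3 x → ∀ y : P4, O3 y → x * y ≠ y * x → Ad x y ∨ Ad x y⁻¹ := by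
  decide +kernel

theorem c4_frames : ∀ x : P4, O3 x → ∀ y : P4, O3 y → Ad x y → ∀ w : P4, O3 w → Ad x w →
    w = y ∨ w = x * y * x⁻¹ ∨ w = x⁻¹ * y * x := by
  decide +kernel

theorem c5_pair : ∀ x : P5, O3 x → ∀ y₁ : P5, O3 y₁ → Ad x y₁ → ∀ y₂ : P5, O3 y₂ → Ad x y₂ →
    y₂ ≠ y₁ → y₂ ≠ x * y₁ * x⁻¹ → y₂ ≠ x⁻¹ * y₁ * x →
    (Ad y₁ y₂ ∨ Ad y₁ (x * y₂ * x⁻¹) ∨ Ad y₁ (x⁻¹ * y₂ * x)) := by
  decide +kernel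

theorem c5_two : ∀ x : P5, O3 x → ∀ y₁ : P5, O3 y₁ → Ad x y₁ → ∀ y₂ : P5, O3 y₂ → Ad x y₂ →
    Ad y₁ y₂ → ∀ y₃ : P5, O3 y₃ → Ad x y₃ →
    (y₃ = y₁ ∨ y₃ = x * y₁ * x⁻¹ ∨ y₃ = x⁻¹ * y₁ * x ∨ y₃ = y₂ ∨ y₃ = x * y₂ * x⁻¹ ∨
      y₃ = x⁻¹ * y₂ * x) := by
  decide +kernel

/-- Standard elements. -/
def x₀ : P5 := Equiv.swap 0 1 * Equiv.swap 1 2
def y₀ : P5 := Equiv.swap 0 1 * Equiv.swap 1 3
def w₀ : P5 := Equiv.swap 0 1 * Equiv.swap 1 4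

theorem c5_std : O3 x₀ ∧ O3 y₀ ∧ O3 w₀ ∧ Ad x₀ y₀ ∧ Ad x₀ w₀ ∧ Ad y₀ w₀ := by
  decide +kernel

theorem c5_std_ne : w₀ ≠ y₀ ∧ w₀ ≠ x₀ * y₀ * x₀⁻¹ ∧ w₀ ≠ x₀⁻¹ * y₀ * x₀ := by
  decide +kernel

/-- Every element of order three has two frames. -/
theorem c5_frames : ∀ x : P5, O3 x → ∃ g : P5, g * x₀ * g⁻¹ = x ∧ Equiv.Perm.sign g = 1 := by
  decide +kernel

theorem c5_trans : ∀ x' : P5, O3 x' → ∀ y' : P5, O3 y' → Ad x' y' → ∀ w' : P5, O3 w' → Ad x' w' →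
    Ad y' w' → ∃ τ : P5, τ * x₀ * τ⁻¹ = x' ∧ τ * y₀ * τ⁻¹ = y' ∧ τ * w₀ * τ⁻¹ = w' := by
  decide +kernel

theorem c5_uniq : ∀ τ : P5, τ * x₀ * τ⁻¹ = x₀ → τ * y₀ * τ⁻¹ = y₀ → τ * w₀ * τ⁻¹ = w₀ → τ = 1 := by
  decide +kernel

/-- Standard elements for `A₄`. -/
def x₁ : P4 := Equiv.swap 0 1 * Equiv.swap 1 2
def y₁ : P4 := Equiv.swap 0 1 * Equiv.swap 1 3

theorem c4_std : O3 x₁ ∧ O3 y₁ ∧ Ad x₁ y₁ := by
  decide +kernel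

theorem c4_trans : ∀ x' : P4, O3 x' → ∀ y' : P4, O3 y' → Ad x' y' →
    ∃ τ : P4, τ * x₁ * τ⁻¹ = x' ∧ τ * y₁ * τ⁻¹ = y' := by
  decide +kernel

theorem c4_uniq : ∀ τ : P4, τ * x₁ * τ⁻¹ = x₁ → τ * y₁ * τ⁻¹ = y₁ → τ = 1 := by
  decide +kernel

end Cfsg.Agent.Lib.Zassen.Checks
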