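import Mathlib

/-!
# The centre of `A₅` is trivial
-/

set_option autoImplicit false
set_option maxRecDepth 100000
set_option synthInstance.maxSize 1000
set_option synthInstance.maxHeartbeats 0

namespace Cfsg.Agent.Lib.Zassen.Checks2

abbrev P5 := Equiv.Perm (Fin 5)

theorem c5_center : ∀ e : P5, Equiv.Perm.sign e = 1 →
    (∀ f : P5, Equiv.Perm.sign f = 1 → e * f = f * e) → e = 1 := by
  decide +kernel

end Cfsg.Agent.Lib.Zassen.Checks2
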