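import Cfsg.Agent.Lib.Zassen.Unique
import Cfsg.Agent.Lib.Zassen.QuatAut
import Cfsg.Agent.S0071
import Cfsg.Agent.S3378
import Cfsg.Agent.Lib.FG85.SwapOrb
import Cfsg.Agent.Lib.Zassen.Checks2

/-!
# Zassenhaus's theorem on perfect fixed-point-free linear groups
-/

set_option autoImplicit false
set_option linter.unusedSectionVars false
set_option linter.style.haveILetI false

namespace Cfsg.Agent.Lib.Zassen.Core

open Module Subgroup
open Cfsg.Agent.Lib.Zassen.Basic Cfsg.Agent.Lib.Zassen.Klein Cfsg.Agent.Lib.Zassen.Checks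
open Cfsg.Agent.Lib.Zassen.Frames Cfsg.Agent.Lib.Zassen.Tau Cfsg.Agent.Lib.Zassen.Unique
open Cfsg.Agent.Lib.Zassen.QuatAut

variable {E V G : Type*} [Field E] [AddCommGroup V] [Module E V] [Group G]
  [Nontrivial V] {ρ : G →* Module.End E V} {z : G} {p : ℕ}

section Start

variable [IsAlgClosed E] [FiniteDimensional E V] [Finite G]

theorem o3_of_orderOf {x : G} (h : orderOf x = 3) : O3 x := by
  refine ⟨by rw [← h]; exact pow_orderOf_eq_one x, ?_⟩
  rintro rfl
  rw [orderOf_one] at h
  omega

/-- A perfect fixed-point-free group with an involution has elements of order three. -/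
theorem exists_o3 (C : Ctx ρ z p) (hperf : commutator G = ⊤) : ∃ a : G, O3 a := by
  let P : Sylow 2 G := default
  have hdvd : 2 ∣ Nat.card G := by
    have : orderOf z = 2 := orderOf_eq_prime C.z2 C.z1
    rw [← this]
    exact orderOf_dvd_natCard z
  have hno : ¬ ∃ N : Subgroup G, N.Normal ∧ N.IsComplement' (P : Subgroup G) := by
    rintro ⟨N, hN, hc⟩
    have hcard : N.index = Nat.card P := hc.symm.index_eq_card
    obtain ⟨k, hk⟩ := IsPGroup.iff_card.mp P.isPGroup'
    haveI : Fact (Nat.Prime 2) := ⟨Nat.prime_two⟩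
    have hpg : IsPGroup 2 (G ⧸ N) := by
      apply IsPGroup.of_card (n := k)
      rw [← Subgroup.index_eq_card, hcard, hk]
    haveI : Finite (G ⧸ N) := inferInstance
    haveI : Group.IsNilpotent (G ⧸ N) := hpg.isNilpotent
    have hsub := perf_solv hperf (QuotientGroup.mk' N) (QuotientGroup.mk'_surjective N)
    have h1 : N.index = 1 := by
      rw [Subgroup.index_eq_card]
      exact Nat.card_unique
    rw [hcard] at h1
    exact P.ne_bot_of_dvd_card hdvd (Subgroup.eq_bot_of_card_eq _ h1)
  rw [Cfsg.Agent.S0071.result P] at hno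
  push Not at hno
  obtain ⟨Q, hQ, g, hg, hcop, hnc⟩ := hno
  have hQp : IsPGroup 2 Q := P.isPGroup'.to_le hQ
  let τ : MulAut Q := Q.normalizerMonoidHom ⟨g, hg⟩
  have hr : Odd (orderOf g) := Nat.coprime_two_right.mp hcop
  have hτr : τ ^ orderOf g = 1 := by
    rw [← map_pow]
    have : (⟨g, hg⟩ : normalizer (Q : Set G)) ^ orderOf g = 1 :=
      Subtype.ext (by simp)
    rw [this, map_one]
  have hτ1 : τ ≠ 1 := by
    intro h
    apply hnc
    have h2 : (⟨g, hg⟩ : normalizer (Q : Set G)) ∈ Q.normalizerMonoidHom.ker := h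
    rw [Subgroup.normalizerMonoidHom_ker] at h2
    exact h2
  have hord : orderOf τ = 3 := by
    rcases subgroup_alt C.fpf Q hQp with hcyc | ⟨-, n, ⟨e⟩⟩
    · haveI := hcyc
      exact absurd (cyclic_odd_aut hQp τ hr hτr) hτ1
    · let σ : MulAut (QuaternionGroup (2 ^ n)) := MulAut.congr e τ
      have hσr : σ ^ orderOf g = 1 := by
        change (MulAut.congr e) τ ^ orderOf g = 1
        rw [← map_pow, hτr, map_one]
      have hord : orderOf σ = orderOf τ := MulEquiv.orderOf_eq (MulAut.congr e) τ
      rcases quat_odd_aut n σ hr hσr with h1 | h1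
      · exfalso
        apply hτ1
        apply orderOf_eq_one_iff.mp
        rw [← hord, h1, orderOf_one]
      · rw [← hord, h1]
  have h3 : 3 ∣ orderOf g := by
    rw [← hord]
    exact orderOf_dvd_of_pow_eq_one hτr
  refine ⟨g ^ (orderOf g / 3), o3_of_orderOf ?_⟩
  exact orderOf_pow_orderOf_div (orderOf_pos g).ne' h3

/-- Not all elements of order three commute. -/
theorem exists_noncomm (C : Ctx ρ z p) [Fact p.Prime] [CharP E p] (hperf : commutator G = ⊤) :
    ∃ a b : G, O3 a ∧ O3 b ∧ a * b ≠ b * a := by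
  obtain ⟨a, ha⟩ := exists_o3 C hperf
  by_contra hall
  push Not at hall
  have hall' : ∀ b, O3 b → b = a ∨ b = a⁻¹ := fun b hb => C.comm_o3 ha hb (hall a b ha hb)
  have hmem : ∀ g : G, g * a * g⁻¹ ∈ zpowers a := by
    intro g
    rcases hall' _ (O3.conj g ha) with h | h <;> rw [h]
    · exact mem_zpowers a
    · exact inv_mem (mem_zpowers a)
  haveI hN : (zpowers a).Normal := by
    refine ⟨fun n hn g => ?_⟩
    obtain ⟨k, rfl⟩ := mem_zpowers_iff.mp hn
    have : g * a ^ k * g⁻¹ = (g * a * g⁻¹) ^ k := by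
      rw [conj_zpow]
    rw [this]
    exact zpow_mem (hmem g) k
  -- `a` is central
  have hcen : ∀ g, g * a = a * g := by
    intro g
    let f : G →* (ZMod (Nat.card (zpowers a)))ˣ :=
      (IsCyclic.mulAutMulEquiv (zpowers a)).toMonoidHom.comp (MulAut.conjNormal (H := zpowers a))
    have h1 : f g = 1 := perf_hom_trivial hperf f g
    have h2 : MulAut.conjNormal (H := zpowers a) g = 1 := by
      apply (IsCyclic.mulAutMulEquiv (zpowers a)).injective
      rw [map_one]
      exact h1
    have h3 := congrArg (fun σ : MulAut (zpowers a) => ((σ ⟨a, mem_zpowers a⟩ : zpowers a) : G)) h2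
    simp only [MulAut.conjNormal_apply, MulAut.one_apply] at h3
    exact mul_inv_eq_iff_eq_mul.mp h3
  haveI : Fact (Nat.Prime 3) := ⟨Nat.prime_three⟩
  have hpg : IsPGroup 3 (zpowers a) := by
    apply IsPGroup.of_card (n := 1)
    rw [Nat.card_zpowers, pow_one]
    exact orderOf_eq_prime ha.1 ha.2
  obtain ⟨P, hP⟩ := hpg.exists_le_sylow
  have hcomm : ∀ x ∈ (P : Subgroup G), ∀ y ∈ (P : Subgroup G), x * y = y * x := by
    intro x hx y hy
    rcases subgroup_alt C.fpf (P : Subgroup G) P.isPGroup' with hcyc | ⟨h, -⟩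
    · haveI := hcyc
      letI := IsCyclic.commGroup (α := (P : Subgroup G))
      have := mul_comm (⟨x, hx⟩ : (P : Subgroup G)) ⟨y, hy⟩
      exact congrArg Subtype.val this
    · omega
  exact false_of_central hperf P hcomm (hP (mem_zpowers a)) hcen ha.2

omit [Nontrivial V] [IsAlgClosed E] [FiniteDimensional E V] [Finite G] in
/-- A subgroup generated by elements of order three and containing all of them is normal. -/
theorem normal_closure_of_o3 {S : Set G} (hS : ∀ s ∈ S, O3 s) (hall : ∀ b : G, O3 b → b ∈ closure S) :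
    (closure S).Normal := by
  refine ⟨fun n hn g => ?_⟩
  induction hn using closure_induction with
  | mem x hx => exact hall _ (O3.conj g (hS x hx))
  | one => simp
  | mul x y _ _ hx hy =>
    have : g * (x * y) * g⁻¹ = (g * x * g⁻¹) * (g * y * g⁻¹) := by group
    rw [this]
    exact mul_mem hx hy
  | inv x _ hx =>
    have : g * x⁻¹ * g⁻¹ = (g * x * g⁻¹)⁻¹ := by group
    rw [this]
    exact inv_mem hx

omit [Nontrivial V] [IsAlgClosed E] [FiniteDimensional E V] [Finite G] in
theorem range_two {H : Subgroup G} (u₁ u₂ : H) :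
    Set.range (fun i : Fin 2 => ((![u₁, u₂] i : H) : G)) = {(u₁ : G), (u₂ : G)} := by
  ext x
  simp [Fin.exists_fin_two, eq_comm]

omit [Nontrivial V] [IsAlgClosed E] [FiniteDimensional E V] [Finite G] in
theorem range_three {H : Subgroup G} (u₁ u₂ u₃ : H) :
    Set.range (fun i : Fin 3 => ((![u₁, u₂, u₃] i : H) : G)) = {(u₁ : G), (u₂ : G), (u₃ : G)} := by
  ext x
  simp [Fin.exists_fin_succ, eq_comm]

section TypFour

variable (C : Ctx ρ z p) [Fact p.Prime] [CharP E p]

include C

/-- A normal `2·A₄` containing all elements of order three is impossible in a perfect group. -/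
theorem false_of_typ4 (hperf : commutator G = ⊤) {H : Subgroup G} (hH : Typ 4 H z)
    (hall : ∀ b : G, O3 b → b ∈ H) : False := by
  have hcard := C.card4 hH
  obtain ⟨π, hs, hk⟩ := hH
  obtain ⟨s1, s2, s3⟩ := c4_std
  obtain ⟨u₁, hu₁, hu₁'⟩ := C.phi_lift hk hs s1
  obtain ⟨u₂, hu₂, hu₂'⟩ := C.phi_lift hk hs s2
  have hadj : Adj z (u₁ : G) u₂ := by
    rw [C.phi_adj hk hu₁ hu₂, hu₁', hu₂']
    exact s3
  have hle : closure ({(u₁ : G), (u₂ : G)} : Set G) ≤ H := by
    rw [closure_le]
    rintro s (rfl | rfl)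
    · exact u₁.2
    · exact u₂.2
  have hgen : H = closure ({(u₁ : G), (u₂ : G)} : Set G) := by
    symm
    apply Subgroup.eq_of_le_of_card_ge hle
    rw [hcard]
    rcases C.typ_pair hu₁ hu₂ (C.adj_ncomm hu₁ hu₂ hadj) with ⟨h, -⟩ | h
    · rw [C.card4 h]
    · exfalso
      have := Subgroup.card_le_of_le hle
      rw [C.card5 h, hcard] at this
      omega
  haveI hN : H.Normal := by
    rw [hgen]
    apply normal_closure_of_o3
    · rintro s (rfl | rfl)
      · exact hu₁
      · exact hu₂
    · intro b hb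
      rw [← hgen]
      exact hall b hb
  obtain ⟨T, hT, hTL⟩ := tau_exists (phi π) ![u₁, u₂] (by rw [range_two]; exact hgen)
    (by
      intro g
      have h1 : O3 ((cj H g u₁ : H) : G) := O3.conj g hu₁
      have h2 : O3 ((cj H g u₂ : H) : G) := O3.conj g hu₂
      have h3 : Adj z ((cj H g u₁ : H) : G) ((cj H g u₂ : H) : G) := C.adj_conj g hadj
      obtain ⟨τ, e1, e2⟩ := c4_trans _ (C.phi_o3 hk h1) _ (C.phi_o3 hk h2)
        ((C.phi_adj hk h1 h2).mp h3)
      refine ⟨τ, fun i => ?_⟩
      fin_cases i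
      · simpa [hu₁'] using e1
      · simpa [hu₂'] using e2)
    (by
      intro τ h
      have e1 := h 0
      have e2 := h 1
      simp only [Matrix.cons_val_zero, Matrix.cons_val_one, hu₁', hu₂'] at e1 e2
      exact c4_uniq τ e1 e2)
  -- `T` is trivial
  have hder : ∀ k, derivedSeries G k = ⊤ := by
    intro k
    induction k with
    | zero => rfl
    | succ k ih => rw [derivedSeries_succ, ih]; exact hperf
  have hT1 : T u₁ = 1 := by
    have h1 : T u₁ ∈ derivedSeries (Equiv.Perm (Fin 4)) 3 :=
      map_derivedSeries_le_derivedSeries T 3 ⟨u₁, by rw [hder]; exact mem_top _, rfl⟩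
    rw [Cfsg.Agent.Lib.FG85.SwapOrb.derivedSeries_perm4, Subgroup.mem_bot] at h1
    exact h1
  rw [hTL, hu₁'] at hT1
  exact s1.2 hT1

/-- Existence of a subgroup of type `2·A₅`. -/
theorem exists_typ5 (hperf : commutator G = ⊤) : ∃ L : Subgroup G, Typ 5 L z := by
  by_contra hno
  push Not at hno
  obtain ⟨a, b, ha, hb, hab⟩ := exists_noncomm C hperf
  rcases C.typ_pair ha hb hab with ⟨hT, hadj⟩ | hT
  · have haH : a ∈ closure ({a, b} : Set G) := subset_closure (by simp)
    have hbH : b ∈ closure ({a, b} : Set G) := subset_closure (by simp)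
    -- the frame `y`
    obtain ⟨y, hy, hay, hyH, hinv⟩ : ∃ y, O3 y ∧ Adj z a y ∧ y ∈ closure ({a, b} : Set G) ∧ True := by
      rcases hadj with h | h
      · exact ⟨b, hb, h, hbH, trivial⟩
      · exact ⟨b⁻¹, O3.inv hb, h, inv_mem hbH, trivial⟩
    refine false_of_typ4 C hperf hT ?_
    intro b' hb'
    by_cases hc : a * b' = b' * a
    · rcases C.comm_o3 ha hb' hc with rfl | rfl
      · exact haH
      · exact inv_mem haH
    · have horb : ∀ y', O3 y' → Adj z a y' → y' ∈ closure ({a, b} : Set G) := by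
        intro y' hy' hay'
        by_cases ho : Orb a y y'
        · rcases ho with rfl | rfl | rfl
          · exact hyH
          · exact mul_mem (mul_mem haH hyH) (inv_mem haH)
          · exact mul_mem (mul_mem (inv_mem haH) hyH) haH
        · exact absurd (C.two_frames ha hy hy' hay hay' ho).1 (hno _)
      rcases C.typ_pair ha hb' hc with ⟨-, h | h⟩ | h
      · exact horb _ hb' h
      · have := horb _ (O3.inv hb') h
        simpa using inv_mem this
      · exact absurd h (hno _)
  · exact hno _ hT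

/-- An element squaring to `z` in a covering group. -/
theorem exists_sq_eq_z {H : Subgroup G} {π : H →* alternatingGroup (Fin 5)}
    (hs : Function.Surjective π) (hk : ∀ x : H, π x = 1 ↔ ((x : G) = 1 ∨ (x : G) = z)) :
    ∃ i : H, (i : G) ^ 2 = z := by
  obtain ⟨e, h2, h1⟩ := exists_invol_five
  obtain ⟨x, hx⟩ := hs e
  have h3 : π (x ^ 2) = 1 := by rw [map_pow, hx, h2]
  rcases (hk _).mp h3 with h4 | h4
  · exfalso
    apply h1
    rw [← hx]
    apply (hk x).mpr
    by_cases h5 : (x : G) = 1
    · exact Or.inl h5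
    · right
      exact C.inv_eq (by simpa using h4) h5
  · exact ⟨x, by simpa using h4⟩

/-- A subgroup of type `2·A₅` is the whole perfect group. -/
theorem eq_top_of_typ5 (hperf : commutator G = ⊤) {L : Subgroup G} (hL : Typ 5 L z) : L = ⊤ := by
  have hcard := C.card5 hL
  have hzL := C.z_mem5 hL
  have hallL : ∀ b : G, O3 b → b ∈ L := fun b hb => C.o3_mem_of_typ5 hL hb
  obtain ⟨π, hs, hk⟩ := hL
  obtain ⟨s0, s1, s2, s3, s4, s5⟩ := c5_std
  obtain ⟨n1, n2, n3⟩ := c5_std_ne
  obtain ⟨u₀, hu₀, hu₀'⟩ := C.phi_lift hk hs s0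
  obtain ⟨u₁, hu₁, hu₁'⟩ := C.phi_lift hk hs s1
  obtain ⟨u₂, hu₂, hu₂'⟩ := C.phi_lift hk hs s2
  have a01 : Adj z (u₀ : G) u₁ := by
    rw [C.phi_adj hk hu₀ hu₁, hu₀', hu₁']
    exact s3
  have a02 : Adj z (u₀ : G) u₂ := by
    rw [C.phi_adj hk hu₀ hu₂, hu₀', hu₂']
    exact s4
  have a12 : Adj z (u₁ : G) u₂ := by
    rw [C.phi_adj hk hu₁ hu₂, hu₁', hu₂']
    exact s5
  have hno : ¬ Orb (u₀ : G) u₁ u₂ := by
    rintro (e | e | e)
    · have e' : u₂ = u₁ := Subtype.ext e
      rw [e', hu₁'] at hu₂'
      exact n1 hu₂'.symm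
    · have e' : u₂ = u₀ * u₁ * u₀⁻¹ := Subtype.ext (by simpa using e)
      apply n2
      rw [← hu₂', e', map_mul, map_mul, map_inv, hu₀', hu₁']
    · have e' : u₂ = u₀⁻¹ * u₁ * u₀ := Subtype.ext (by simpa using e)
      apply n3
      rw [← hu₂', e', map_mul, map_mul, map_inv, hu₀', hu₁']
  have hle : closure ({(u₀ : G), (u₁ : G), (u₂ : G)} : Set G) ≤ L := by
    rw [closure_le]
    rintro s (rfl | rfl | rfl)
    · exact u₀.2
    · exact u₁.2
    · exact u₂.2
  have hgen : L = closure ({(u₀ : G), (u₁ : G), (u₂ : G)} : Set G) := by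
    symm
    apply Subgroup.eq_of_le_of_card_ge hle
    rw [hcard, C.card5 (C.two_frames hu₀ hu₁ hu₂ a01 a02 hno).1]
  haveI hN : L.Normal := by
    rw [hgen]
    apply normal_closure_of_o3
    · rintro s (rfl | rfl | rfl)
      · exact hu₀
      · exact hu₁
      · exact hu₂
    · intro b hb
      rw [← hgen]
      exact hallL b hb
  obtain ⟨T, hT, hTL⟩ := tau_exists (phi π) ![u₀, u₁, u₂] (by rw [range_three]; exact hgen)
    (by
      intro g
      have h0 : O3 ((cj L g u₀ : L) : G) := O3.conj g hu₀
      have h1 : O3 ((cj L g u₁ : L) : G) := O3.conj g hu₁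
      have h2 : O3 ((cj L g u₂ : L) : G) := O3.conj g hu₂
      have h01 : Adj z ((cj L g u₀ : L) : G) ((cj L g u₁ : L) : G) := C.adj_conj g a01
      have h02 : Adj z ((cj L g u₀ : L) : G) ((cj L g u₂ : L) : G) := C.adj_conj g a02
      have h12 : Adj z ((cj L g u₁ : L) : G) ((cj L g u₂ : L) : G) := C.adj_conj g a12
      obtain ⟨τ, e0, e1, e2⟩ := c5_trans _ (C.phi_o3 hk h0) _ (C.phi_o3 hk h1)
        ((C.phi_adj hk h0 h1).mp h01) _ (C.phi_o3 hk h2) ((C.phi_adj hk h0 h2).mp h02)
        ((C.phi_adj hk h1 h2).mp h12)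
      refine ⟨τ, fun i => ?_⟩
      fin_cases i
      · simpa [hu₀'] using e0
      · simpa [hu₁'] using e1
      · simpa [hu₂'] using e2)
    (by
      intro τ h
      have e0 := h 0
      have e1 := h 1
      have e2 := h 2
      simp only [Matrix.cons_val_zero, Matrix.cons_val_one, Matrix.cons_val, hu₀', hu₁', hu₂']
        at e0 e1 e2
      exact c5_uniq τ e0 e1 e2)
  -- the kernel of `T` centralizes `L`
  have hcent : ∀ c : G, T c = 1 → ∀ l ∈ L, c * l * c⁻¹ = l := by
    intro c hc
    have hgens : ∀ u : L, O3 (u : G) → c * u * c⁻¹ = u := by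
      intro u hu
      have e := hT c u
      rw [hc, one_mul, inv_one, mul_one] at e
      exact (C.phi_inj hk hu (y := cj L c u) (O3.conj c hu) e).symm
    have hle' : L ≤ centralizer {c} := by
      rw [hgen, closure_le]
      rintro s (rfl | rfl | rfl)
      · rw [SetLike.mem_coe, mem_centralizer_singleton_iff]
        exact mul_inv_eq_iff_eq_mul.mp (hgens u₀ hu₀) |>.symm
      · rw [SetLike.mem_coe, mem_centralizer_singleton_iff]
        exact mul_inv_eq_iff_eq_mul.mp (hgens u₁ hu₁) |>.symm
      · rw [SetLike.mem_coe, mem_centralizer_singleton_iff]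
        exact mul_inv_eq_iff_eq_mul.mp (hgens u₂ hu₂) |>.symm
    intro l hl
    have := hle' hl
    rw [mem_centralizer_singleton_iff] at this
    exact mul_inv_eq_iff_eq_mul.mpr this.symm
  -- no square roots of `z` in the kernel
  have hnosq : ∀ k : G, T k = 1 → k ^ 2 ≠ z := by
    intro k hk1 hk2
    obtain ⟨i, hi⟩ := exists_sq_eq_z C hs hk
    have hcomm : k * i = i * k := mul_inv_eq_iff_eq_mul.mp (hcent k hk1 i i.2)
    have h1 : (k * i) ^ 2 = 1 := by
      rw [Commute.mul_pow hcomm, hk2, hi]
      exact C.zz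
    have hkL : k ∈ L := by
      by_cases h2 : k * i = 1
      · rw [eq_inv_of_mul_eq_one_left h2]
        exact inv_mem i.2
      · have h3 := C.inv_eq h1 h2
        have h4 : k = z * (i : G)⁻¹ := by
          rw [← h3]; group
        rw [h4]
        exact mul_mem hzL (inv_mem i.2)
    let k' : L := ⟨k, hkL⟩
    have hk'c : phi π k' = 1 := by
      apply Cfsg.Agent.Lib.Zassen.Checks2.c5_center
      · exact Equiv.Perm.mem_alternatingGroup.mp (π k').2
      · intro f hf
        obtain ⟨l, hl⟩ := hs ⟨f, Equiv.Perm.mem_alternatingGroup.mpr hf⟩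
        have hlf : phi π l = f := by rw [phi_apply, hl]
        rw [← hlf, ← map_mul, ← map_mul]
        congr 1
        apply Subtype.ext
        exact mul_inv_eq_iff_eq_mul.mp (hcent k hk1 l l.2)
    rcases (hk k').mp (phi_eq_one.mp hk'c) with h5 | h5
    · apply C.z1
      rw [← hk2]
      have h6 : k = 1 := h5
      rw [h6, one_pow]
    · apply C.z1
      have h6 : k = z := h5
      rw [h6, C.z2] at hk2
      exact hk2.symm
  -- the kernel is a Z-group
  haveI hZ : IsZGroup T.ker := by
    refine ⟨fun q hq P => ?_⟩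
    haveI : Fact q.Prime := ⟨hq⟩
    have hfpf : IsFPF (ρ.comp T.ker.subtype) := fpf_comp_subtype C.fpf _
    rcases subgroup_alt hfpf (P : Subgroup T.ker) P.isPGroup' with hcyc | ⟨rfl, -⟩
    · exact hcyc
    · -- a 2-group in which every element is `1` or `z`
      have hel : ∀ x : (P : Subgroup T.ker), x = 1 ∨ (((x : T.ker) : G)) = z := by
        intro x
        by_cases hx1 : x = 1
        · exact Or.inl hx1
        · right
          obtain ⟨k, hk⟩ := P.isPGroup' x
          have hx' : ((x : T.ker) : G) ^ 2 ^ k = 1 := by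
            simpa using congrArg (fun y : (P : Subgroup T.ker) => ((y : T.ker) : G)) hk
          obtain ⟨s, -, hs'⟩ := (Nat.dvd_prime_pow Nat.prime_two).mp (orderOf_dvd_of_pow_eq_one hx')
          have hxG1 : ((x : T.ker) : G) ≠ 1 := by
            intro h
            apply hx1
            exact Subtype.ext (Subtype.ext h)
          have hs0 : s ≠ 0 := by
            rintro rfl
            rw [pow_zero] at hs'
            exact hxG1 (orderOf_eq_one_iff.mp hs')
          obtain ⟨s, rfl⟩ := Nat.exists_eq_succ_of_ne_zero hs0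
          rcases s with _ | s
          · apply C.inv_eq _ hxG1
            have := pow_orderOf_eq_one ((x : T.ker) : G)
            rwa [hs'] at this
          · exfalso
            -- an element of order four
            let y : G := ((x : T.ker) : G) ^ 2 ^ s
            have hy1 : T y = 1 := by
              rw [map_pow, (x : T.ker).2, one_pow]
            have hy2 : y ^ 2 = z := by
              apply C.inv_eq
              · have : (y ^ 2) ^ 2 = ((x : T.ker) : G) ^ 2 ^ (s + 1 + 1) := by
                  simp only [y, ← pow_mul]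
                  congr 1
                rw [this, ← Nat.succ_eq_add_one (s + 1), ← hs']
                exact pow_orderOf_eq_one _
              · intro h
                have h1 : y ^ 2 = ((x : T.ker) : G) ^ 2 ^ (s + 1) := by
                  simp only [y, ← pow_mul]
                  congr 1
                have h2 : orderOf ((x : T.ker) : G) ∣ 2 ^ (s + 1) :=
                  orderOf_dvd_of_pow_eq_one (h1 ▸ h)
                rw [hs'] at h2
                have := Nat.pow_dvd_pow_iff_le_right (x := 2) (by norm_num) |>.mp h2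
                omega
            exact hnosq y hy1 hy2
      by_cases hall1 : ∀ x : (P : Subgroup T.ker), x = 1
      · haveI : Subsingleton (P : Subgroup T.ker) :=
          ⟨fun x y => by rw [hall1 x, hall1 y]⟩
        infer_instance
      · push Not at hall1
        obtain ⟨x₀, hx₀⟩ := hall1
        have hx₀z := (hel x₀).resolve_left hx₀
        refine ⟨x₀, fun y => ?_⟩
        rcases hel y with rfl | hy
        · exact ⟨0, by simp⟩
        · have : y = x₀ := Subtype.ext (Subtype.ext (hy.trans hx₀z.symm))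
          exact ⟨1, by simp [this]⟩
  -- `G/L` is solvable
  have hsurj : Function.Surjective ((QuotientGroup.mk' L).comp T.ker.subtype) := by
    intro q
    obtain ⟨g, rfl⟩ := QuotientGroup.mk'_surjective L q
    have hsg : Equiv.Perm.sign (T g) = 1 :=
      perf_hom_trivial hperf (Equiv.Perm.sign.comp T) g
    obtain ⟨l, hl⟩ := hs ⟨T g, Equiv.Perm.mem_alternatingGroup.mpr hsg⟩
    have hlT : T l = T g := by
      rw [hTL, phi_apply, hl]
    refine ⟨⟨(l : G)⁻¹ * g, ?_⟩, ?_⟩
    · rw [MonoidHom.mem_ker, map_mul, map_inv, hlT, inv_mul_cancel]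
    · simp only [MonoidHom.comp_apply, QuotientGroup.mk'_apply, Subgroup.subtype_apply]
      rw [QuotientGroup.eq]
      have : ((l : G)⁻¹ * g)⁻¹ * g = ((l : G)⁻¹ * g)⁻¹ * l * ((l : G)⁻¹ * g) := by group
      rw [this]
      exact hN.conj_mem' _ l.2 _
  haveI : Group.IsSolvable (G ⧸ L) := Group.isSolvable_of_surjective hsurj
  have hsub := perf_solv hperf (QuotientGroup.mk' L) (QuotientGroup.mk'_surjective L)
  rw [eq_top_iff]
  intro g _
  have : (g : G ⧸ L) = 1 := Subsingleton.elim _ _
  exact (QuotientGroup.eq_one_iff g).mp this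

/-- The end of the proof. -/
theorem core (hperf : commutator G = ⊤) :
    Nonempty (G ≃* Matrix.SpecialLinearGroup (Fin 2) (ZMod 5)) := by
  obtain ⟨L, hL⟩ := exists_typ5 C hperf
  have h120 : Nat.card G = 120 := by
    have h1 := C.card5 hL
    rw [eq_top_of_typ5 C hperf hL] at h1
    rwa [Subgroup.card_top] at h1
  haveI : Nontrivial G := ⟨⟨z, 1, C.z1⟩⟩
  have hnsolv : ¬ Group.IsSolvable G := by
    intro h
    haveI := h
    have := perf_solv hperf (MonoidHom.id G) Function.surjective_id
    exact not_subsingleton G this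
  refine Cfsg.Agent.S3378.result.1 G h120 hnsolv ?_
  intro P
  haveI : Fact (Nat.Prime 2) := ⟨Nat.prime_two⟩
  have hPcard : Nat.card P = 8 := by
    obtain ⟨k, hk⟩ := IsPGroup.iff_card.mp P.isPGroup'
    have h1 := (P : Subgroup G).card_mul_index
    have h2 := P.not_dvd_index
    change Nat.card (P : Subgroup G) = 2 ^ k at hk
    rw [hk, h120] at h1
    have hk3 : k = 3 := by
      have hk4 : k < 4 := by
        by_contra h
        have h3 : 2 ^ 4 ∣ 2 ^ k := Nat.pow_dvd_pow 2 (by omega)
        have h4 : 2 ^ 4 ∣ 120 := h3.trans (Dvd.intro _ h1)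
        omega
      interval_cases k
      · exfalso; apply h2; omega
      · exfalso; apply h2; omega
      · exfalso; apply h2; omega
      · rfl
    change Nat.card (P : Subgroup G) = 8
    rw [hk, hk3]
    norm_num
  rcases subgroup_alt C.fpf (P : Subgroup G) P.isPGroup' with hcyc | ⟨-, n, ⟨e⟩⟩
  · exfalso
    haveI := hcyc
    letI := IsCyclic.commGroup (α := (P : Subgroup G))
    have hcomm : ∀ x ∈ (P : Subgroup G), ∀ y ∈ (P : Subgroup G), x * y = y * x := by
      intro x hx y hy
      have := mul_comm (⟨x, hx⟩ : (P : Subgroup G)) ⟨y, hy⟩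
      exact congrArg Subtype.val this
    have h2 : 2 ∣ Nat.card (P : Subgroup G) := by
      change 2 ∣ Nat.card P
      rw [hPcard]
      norm_num
    obtain ⟨x, hx⟩ := exists_prime_orderOf_dvd_card' (G := (P : Subgroup G)) 2 h2
    have hx2 : (x : G) ^ 2 = 1 := by
      have := pow_orderOf_eq_one x
      rw [hx] at this
      simpa using congrArg Subtype.val this
    have hx1 : (x : G) ≠ 1 := by
      intro h
      have : x = 1 := Subtype.ext h
      rw [this, orderOf_one] at hx
      omega
    have hxz := C.inv_eq hx2 hx1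
    have hzP : z ∈ (P : Subgroup G) := hxz ▸ x.2
    exact false_of_central hperf P hcomm hzP (fun g => C.comm g) C.z1
  · have h1 : Nat.card (QuaternionGroup (2 ^ n)) = 8 := by
      rw [← Nat.card_congr e.toEquiv]
      exact hPcard
    rw [Nat.card_eq_fintype_card, QuaternionGroup.card] at h1
    have hn : n = 1 := by
      have : 2 ^ n = 2 ^ 1 := by omega
      exact Nat.pow_right_injective (le_refl 2) this
    subst hn
    exact ⟨e⟩

end TypFour

end Start

end Cfsg.Agent.Lib.Zassen.Core
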