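import Cfsg.Agent.Lib.Zassen.Basic

/-!
# The holonomy obstruction

Three pairwise adjacent "frames" cannot be twisted by a non-trivial cube root of unity.
-/

set_option autoImplicit false
set_option linter.unusedSectionVars false

namespace Cfsg.Agent.Lib.Zassen.Holonomy

open Module Cfsg.Agent.Lib.Zassen.Basic

section Abs

variable {E X : Type*} [Field E] [IsAlgClosed E] [AddCommGroup X] [Module E X]
  [FiniteDimensional E X] [Nontrivial X]

/-- A scalar contradiction used twice below. -/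
theorem scal_contra {h ν r : E} (hh : 2 * h = 1) (h3 : (3 : E) ≠ 0) (hν : ν ^ 2 + ν + 1 = 0)
    (hr : r * (h - r) = 1) (e : h + ν * r = 0) : False := by
  apply h3
  have hr' : r = - h * ν ^ 2 := by
    have hν3 : ν ^ 3 = 1 := by linear_combination (ν - 1) * hν
    linear_combination ν ^ 2 * e - r * hν3
  rw [hr'] at hr
  have hν3 : ν ^ 3 = 1 := by linear_combination (ν - 1) * hν
  have h4 : 4 * (h * h) = 1 := by linear_combination (2 * h + 1) * hh
  have hr2 : h ^ 2 = 1 := by
    have e2 : -h * ν ^ 2 * (h - -h * ν ^ 2) = h ^ 2 * (- ν ^ 2 * (1 + ν ^ 2)) := by ring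
    have e3 : - ν ^ 2 * (1 + ν ^ 2) = ν ^ 3 := by linear_combination (-ν ^ 2) * hν
    rw [e2, e3, hν3] at hr
    linear_combination hr
  linear_combination h4 - 4 * hr2

theorem hol_abs {h : E} (hh : 2 * h = 1) (h3 : (3 : E) ≠ 0) {ν : E} (hν : ν ^ 2 + ν + 1 = 0)
    (x x' y y' : Module.End E X)
    (hxx : ∀ v, x (x' v) = v) (hyy : ∀ v, y (y' v) = v)
    (hx : ∀ v, x v + x' v = h • v) (hy : ∀ v, y v + y' v = h • v)
    (hfin : ∀ v, ν • x (y v) + ν ^ 2 • y' (x' v) = h • v) : False := by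
  obtain ⟨r, hr⟩ := Module.End.exists_eigenvalue y
  obtain ⟨v₀, hv₀⟩ := hr.exists_hasEigenvector
  have hv₀1 : y v₀ = r • v₀ := hv₀.apply_eq_smul
  have hv₀0 : v₀ ≠ 0 := hv₀.2
  have hy' : ∀ v, y' v = h • v - y v := fun v => by rw [← hy v]; abel
  have hx' : ∀ v, x' v = h • v - x v := fun v => by rw [← hx v]; abel
  -- the quadratic for `r`
  have hrr : r * (h - r) = 1 := by
    have h1 := hyy v₀
    rw [hy', map_sub, map_smul, hv₀1, ← sub_eq_zero] at h1
    have : (r * (h - r) - 1) • v₀ = 0 := by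
      rw [← h1, map_smul, hv₀1]
      module
    have := (smul_eq_zero.mp this).resolve_right hv₀0
    linear_combination this
  have hν' : ν ≠ 1 := by
    rintro rfl
    apply h3
    linear_combination hν
  have hν2' : ν ^ 2 ≠ 1 := by
    intro e
    have : ν = -2 := by linear_combination hν - e
    rw [this] at hν
    apply h3
    linear_combination hν
  have hr0 : r ≠ 0 := by
    rintro rfl
    simp at hrr
  set u := x v₀ with hu
  have hmain : ν ^ 2 • y u = (ν ^ 2 * h - ν * r) • u + (h - ν ^ 2 * (h * (h - r))) • v₀ := by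
    have e := hfin v₀
    rw [hv₀1, map_smul, ← hu, hx' v₀, map_sub, map_smul, hy' v₀, hv₀1, ← hu, hy' u] at e
    have e' := sub_eq_zero.mpr e
    rw [← sub_eq_zero, ← e']
    module
  have hyu : y u = (h - ν ^ 2 * r) • u + (ν * h - (h * (h - r))) • v₀ := by
    have hν3 : ν ^ 3 = 1 := by linear_combination (ν - 1) * hν
    have := congrArg (fun w => ν • w) hmain
    simp only [smul_smul, smul_add] at this
    have e1 : ν * ν ^ 2 = 1 := by linear_combination hν3
    rw [e1, one_smul] at this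
    rw [this]
    have e2 : ν * (ν ^ 2 * h - ν * r) = h - ν ^ 2 * r := by
      linear_combination h * hν3
    have e3 : ν * (h - ν ^ 2 * (h * (h - r))) = ν * h - h * (h - r) := by
      linear_combination (- h * (h - r)) * hν3
    rw [e2, e3]
  by_cases hdep : ∃ μ : E, u = μ • v₀
  · obtain ⟨μ, hμ⟩ := hdep
    have hmm : μ * (h - μ) = 1 := by
      have h1 := hxx v₀
      rw [hx', map_sub, map_smul, ← hu, hμ, map_smul, ← hu, hμ, ← sub_eq_zero] at h1
      have : (μ * (h - μ) - 1) • v₀ = 0 := by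
        rw [← h1]
        module
      have := (smul_eq_zero.mp this).resolve_right hv₀0
      linear_combination this
    have heq : ν ^ 2 * (μ * r) = (ν ^ 2 * h - ν * r) * μ + (h - ν ^ 2 * (h * (h - r))) := by
      have e := hmain
      rw [hμ, map_smul, hv₀1, ← sub_eq_zero] at e
      have e' : (ν ^ 2 * (μ * r) - ((ν ^ 2 * h - ν * r) * μ + (h - ν ^ 2 * (h * (h - r))))) • v₀ = 0 := by
        rw [← e]
        module
      have := (smul_eq_zero.mp e').resolve_right hv₀0
      linear_combination this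
    have hcase : (μ - r) * (μ + r - h) = 0 := by linear_combination hrr - hmm
    rcases mul_eq_zero.mp hcase with h1 | h1
    · have hμr : μ = r := by linear_combination h1
      rw [hμr] at heq
      have h5 : (ν - 1) * (h + ν * r) = 0 := by
        linear_combination (-2) * heq + (-2 * (ν ^ 2 + ν)) * hrr + (h - 2) * hν +
          (ν * r - ν ^ 2 * r + ν ^ 2 * h - 2) * hh
      have h6 := (mul_eq_zero.mp h5).resolve_left (sub_ne_zero.mpr hν')
      exact scal_contra hh h3 hν hrr h6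
    · have hμr : μ = h - r := by linear_combination h1
      rw [hμr] at heq
      have e : ν ^ 2 + ν = h := by linear_combination heq - (ν ^ 2 + ν) * hrr
      apply h3
      linear_combination 2 * hν - 2 * e - hh
  · push Not at hdep
    -- independence
    have hind : ∀ a b : E, a • u + b • v₀ = 0 → a = 0 ∧ b = 0 := by
      intro a b hab
      have ha : a = 0 := by
        by_contra ha
        apply hdep (-(a⁻¹ * b))
        have : a⁻¹ • (a • u + b • v₀) = 0 := by rw [hab, smul_zero]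
        rw [smul_add, smul_smul, inv_mul_cancel₀ ha, one_smul, smul_smul] at this
        rw [neg_smul]
        exact eq_neg_of_add_eq_zero_left this
      subst ha
      rw [zero_smul, zero_add] at hab
      exact ⟨rfl, (smul_eq_zero.mp hab).resolve_right hv₀0⟩
    set α := h - ν ^ 2 * r with hα
    set c := ν * h - (h * (h - r)) with hc
    have h1 := hyy u
    rw [hy', map_sub, map_smul, hyu, map_add, map_smul, map_smul, hyu, hv₀1, ← sub_eq_zero] at h1
    have h2 : (α * (h - α) - 1) • u + (h * c - α * c - c * r) • v₀ = 0 := by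
      rw [← h1]
      module
    have h3' := (hind _ _ h2).1
    have hcase : (α - r) * (α + r - h) = 0 := by linear_combination hrr - h3'
    have hne : α + r - h ≠ 0 := by
      have e : α + r - h = r * (1 - ν ^ 2) := by rw [hα]; ring
      rw [e]
      exact mul_ne_zero hr0 (sub_ne_zero.mpr (Ne.symm hν2'))
    have h4 := (mul_eq_zero.mp hcase).resolve_right hne
    apply scal_contra hh h3 hν hrr
    rw [hα] at h4
    linear_combination h4 + r * hν

end Abs


section Ops

variable {E V : Type*} [Field E] [AddCommGroup V] [Module E V]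

/-- The relation `★` between two operators, pointwise. -/
def Star (A B : Module.End E V) : Prop := ∀ v, A (B v) + B (A v) + A v + B v + v = 0

/-- The relation `A² + A + 1 = 0`, pointwise. -/
def Cub (A : Module.End E V) : Prop := ∀ v, A (A v) + A v + v = 0

/-- Scalars attached to `ω`. -/
structure Sc (ω t β β' γ γ' : E) : Prop where
  ω2 : ω ^ 2 + ω + 1 = 0
  t3 : 3 * t = 1
  hβ : β = (ω - 1) * t
  hβ' : β' = (-ω - 2) * t
  hγ : γ = -2 * t
  hγ' : γ' * γ = 1

variable {ω t β β' γ γ' : E}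

theorem Sc.sum (S : Sc ω t β β' γ γ') : β + β' = -1 := by
  rw [S.hβ, S.hβ']
  linear_combination (-1 : E) * S.t3

theorem Sc.prod (S : Sc ω t β β' γ γ') : β * β' = t := by
  rw [S.hβ, S.hβ']
  linear_combination (-t ^ 2) * S.ω2 + t * S.t3

theorem Sc.tm (S : Sc ω t β β' γ γ') : t - 1 = γ := by
  rw [S.hγ]
  linear_combination S.t3

theorem Sc.sc1 (S : Sc ω t β β' γ γ') : -(ω + 1) - β * (2 * ω + 1) = 0 := by
  rw [S.hβ]
  linear_combination (-2 * t) * S.ω2 + (ω + 1) * S.t3

theorem Sc.sc2 (S : Sc ω t β β' γ γ') : ω + β' * (2 * ω + 1) = 0 := by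
  rw [S.hβ']
  linear_combination (-2 * t) * S.ω2 + (-ω) * S.t3

theorem Sc.sc3 (S : Sc ω t β β' γ γ') : ω - β * (1 - ω) = 0 := by
  rw [S.hβ]
  linear_combination t * S.ω2 + (-ω) * S.t3

theorem Sc.sc4 (S : Sc ω t β β' γ γ') : (-1 - ω) - β' * (2 + ω) = 0 := by
  rw [S.hβ']
  linear_combination t * S.ω2 + (ω + 1) * S.t3

variable {A Y Z W : Module.End E V} {v : V}

theorem Sc.F1 (S : Sc ω t β β' γ γ') (hAY : Star A Y) (hv : A v = ω • v) :
    A (Y v - β • v) = (-1 - ω) • (Y v - β • v) := by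
  have h := hAY v
  rw [hv, map_smul] at h
  rw [map_sub, map_smul, hv]
  linear_combination (norm := module) h + S.sc1 • v

theorem Sc.F2 (S : Sc ω t β β' γ γ') (hAY : Star A Y) (hv : A v = (-1 - ω) • v) :
    A (Y v - β' • v) = ω • (Y v - β' • v) := by
  have h := hAY v
  rw [hv, map_smul] at h
  rw [map_sub, map_smul, hv]
  linear_combination (norm := module) h + S.sc2 • v

theorem Sc.F3 (S : Sc ω t β β' γ γ') (hY : Cub Y) (v : V) :
    Y (Y v - β • v) - β' • (Y v - β • v) = γ • v := by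
  have h := hY v
  rw [map_sub, map_smul]
  linear_combination (norm := module) h - S.sum • (Y v) + S.prod • v + S.tm • v

theorem Sc.F3' (S : Sc ω t β β' γ γ') (hY : Cub Y) (v : V) :
    Y (Y v - β' • v) - β • (Y v - β' • v) = γ • v := by
  have h := hY v
  rw [map_sub, map_smul]
  linear_combination (norm := module) h - S.sum • (Y v) + S.prod • v + S.tm • v

theorem Sc.F4 (S : Sc ω t β β' γ γ') (hYZ : Star Y Z) (v : V) :
    (Y (Z v - β • v) - β' • (Z v - β • v)) + (Z (Y v - β • v) - β' • (Y v - β • v)) = (-t) • v := by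
  have h := hYZ v
  rw [map_sub, map_smul, map_sub, map_smul]
  linear_combination (norm := module) h - S.sum • (Y v) - S.sum • (Z v) + (2 : E) • S.prod • v + S.t3 • v

theorem Sc.F5 (S : Sc ω t β β' γ γ') (hAY : Star A Y) (htw : ∀ v, Z (A v) = A (Y v))
    (hv : A v = ω • v) : Z v - β • v = ω • (Y v - β • v) := by
  have h := hAY v
  have h' := htw v
  rw [hv, map_smul] at h
  rw [hv, map_smul] at h'
  have ω3 : ω ^ 3 = 1 := by linear_combination (ω - 1) * S.ω2
  have ωN : ω * (ω ^ 2 + ω + 1) = 0 := by rw [S.ω2, mul_zero]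
  have hZ : Z v = ω • Y v + ω • v := by
    linear_combination (norm := module) (ω ^ 2) • h' + (ω ^ 2) • h - ω3 • (Z v) - ωN • (Y v) - ωN • v
  rw [hZ]
  linear_combination (norm := module) S.sc3 • v

theorem Sc.F6 (S : Sc ω t β β' γ γ') (hAY : Star A Y) (htw : ∀ v, Z (A v) = A (Y v))
    (hv : A v = (-1 - ω) • v) : Z v - β' • v = (-1 - ω) • (Y v - β' • v) := by
  have h := hAY v
  have h' := htw v
  rw [hv, map_smul] at h
  rw [hv, map_smul] at h'
  have hZ : Z v = (-1 - ω) • Y v + (-1 - ω) • v := by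
    linear_combination (norm := module) ω • h' + ω • h + S.ω2 • (Z v) + S.ω2 • (Y v) + S.ω2 • v
  rw [hZ]
  linear_combination (norm := module) S.sc4 • v

/-- The transition operators. -/
def Xop (β β' γ' : E) (Y Z : Module.End E V) : Module.End E V :=
  γ' • ((Y - β' • 1) * (Z - β • 1))

theorem Xop_apply (Y Z : Module.End E V) (v : V) :
    Xop β β' γ' Y Z v = γ' • (Y (Z v - β • v) - β' • (Z v - β • v)) := by
  simp [Xop, Module.End.mul_apply]

theorem Sc.X_comp (S : Sc ω t β β' γ γ') (hW : Cub W) (v : V) :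
    Xop β β' γ' Y W (Xop β β' γ' W Z v) = Xop β β' γ' Y Z v := by
  rw [Xop_apply, Xop_apply, Xop_apply]
  set u := Z v - β • v with hu
  have e1 : W (γ' • (W u - β' • u)) - β • (γ' • (W u - β' • u)) = (γ' * γ) • u := by
    have := S.F3' hW u
    rw [mul_smul, ← this, map_smul]
    module
  rw [e1, S.hγ', one_smul]

theorem Sc.X_self (S : Sc ω t β β' γ γ') (hY : Cub Y) (v : V) :
    Xop β β' γ' Y Y v = v := by
  rw [Xop_apply, S.F3 hY v, smul_smul, S.hγ', one_smul]

theorem Sc.X_add (S : Sc ω t β β' γ γ') (hYZ : Star Y Z) {h : E} (hh : 2 * h = 1) (v : V) :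
    Xop β β' γ' Y Z v + Xop β β' γ' Z Y v = h • v := by
  rw [Xop_apply, Xop_apply, ← smul_add, S.F4 hYZ v, smul_smul]
  congr 1
  have h1 := S.hγ'
  rw [S.hγ] at h1
  have h4 : 2 * (γ' * -t - h) = 0 := by linear_combination h1 - hh
  have h5 : (2 : E) ≠ 0 := by
    intro h0
    rw [h0, zero_mul] at hh
    exact zero_ne_one hh
  have := (mul_eq_zero.mp h4).resolve_left h5
  linear_combination this

theorem Sc.X_mem (S : Sc ω t β β' γ γ') (hAY : Star A Y) (hAZ : Star A Z) (hv : A v = ω • v) :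
    A (Xop β β' γ' Y Z v) = ω • Xop β β' γ' Y Z v := by
  rw [Xop_apply, map_smul, S.F2 hAY (S.F1 hAZ hv), smul_comm]

/-- The twisted relation on the eigenspace. -/
theorem Sc.X_twist (S : Sc ω t β β' γ γ') (hAZ : Star A Z) (hAY : Star A Y)
    {Z' : Module.End E V} (htw : ∀ v, Z' (A v) = A (Z v))
    (hYZ' : Star Y Z') {h : E} (hh : 2 * h = 1) (hv : A v = ω • v) :
    ω • Xop β β' γ' Y Z v + (ω ^ 2) • Xop β β' γ' Z Y v = h • v := by
  have e1 := S.X_add hYZ' hh v
  rw [Xop_apply, Xop_apply] at e1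
  rw [S.F5 hAZ htw hv, S.F6 hAZ htw (S.F1 hAY hv)] at e1
  rw [Xop_apply, Xop_apply, ← e1]
  have ω2 : ω ^ 2 = -1 - ω := by linear_combination S.ω2
  rw [ω2, map_smul]
  module

theorem holonomy_ops [IsAlgClosed E] [FiniteDimensional E V] [Nontrivial V] (h2 : (2 : E) ≠ 0)
    (h3 : (3 : E) ≠ 0) {A Y₁ Y₂ Y₃ Y₃' : Module.End E V}
    (hA : Cub A) (hY₁ : Cub Y₁) (hY₂ : Cub Y₂) (hY₃ : Cub Y₃)
    (h1 : Star A Y₁) (h2' : Star A Y₂) (h3' : Star A Y₃)
    (h21 : Star Y₂ Y₁) (h13 : Star Y₁ Y₃)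
    (htw : ∀ v, Y₃' (A v) = A (Y₃ v)) (h23 : Star Y₂ Y₃') : False := by
  obtain ⟨ω, hω⟩ := Module.End.exists_eigenvalue A
  obtain ⟨v₀, hv₀⟩ := hω.exists_hasEigenvector
  have hv₀1 : A v₀ = ω • v₀ := hv₀.apply_eq_smul
  have hv₀0 : v₀ ≠ 0 := hv₀.2
  have hN : ω ^ 2 + ω + 1 = 0 := by
    have e := hA v₀
    rw [hv₀1, map_smul, hv₀1] at e
    have e' : (ω ^ 2 + ω + 1) • v₀ = 0 := by
      rw [← e]
      module
    exact (smul_eq_zero.mp e').resolve_right hv₀0
  set t : E := 3⁻¹ with ht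
  set h : E := 2⁻¹ with hh
  have ht3 : 3 * t = 1 := mul_inv_cancel₀ h3
  have hh2 : 2 * h = 1 := mul_inv_cancel₀ h2
  set γ : E := -2 * t with hγ
  have hγ0 : γ ≠ 0 := by
    rw [hγ]
    refine mul_ne_zero (neg_ne_zero.mpr h2) ?_
    exact inv_ne_zero h3
  have S : Sc ω t ((ω - 1) * t) ((-ω - 2) * t) γ γ⁻¹ :=
    ⟨hN, ht3, rfl, rfl, rfl, inv_mul_cancel₀ hγ0⟩
  set β := (ω - 1) * t with hβ
  set β' := (-ω - 2) * t with hβ'
  set W₀ := Module.End.eigenspace A ω with hW₀
  have hmem : ∀ v, v ∈ W₀ ↔ A v = ω • v := fun v => Module.End.mem_eigenspace_iff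
  have : Nontrivial W₀ := by
    rw [Submodule.nontrivial_iff_ne_bot]
    exact hω
  have hinv : ∀ {Y Z : Module.End E V}, Star A Y → Star A Z →
      ∀ v ∈ W₀, Xop β β' γ⁻¹ Y Z v ∈ W₀ := by
    intro Y Z hY hZ v hv
    rw [hmem] at hv ⊢
    exact S.X_mem hY hZ hv
  refine hol_abs (X := W₀) hh2 h3 hN
    ((Xop β β' γ⁻¹ Y₂ Y₁).restrict (hinv h2' h1))
    ((Xop β β' γ⁻¹ Y₁ Y₂).restrict (hinv h1 h2'))
    ((Xop β β' γ⁻¹ Y₁ Y₃).restrict (hinv h1 h3'))
    ((Xop β β' γ⁻¹ Y₃ Y₁).restrict (hinv h3' h1)) ?_ ?_ ?_ ?_ ?_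
  · rintro ⟨v, hv⟩
    apply Subtype.ext
    simp only [LinearMap.restrict_apply]
    rw [S.X_comp hY₁, S.X_self hY₂]
  · rintro ⟨v, hv⟩
    apply Subtype.ext
    simp only [LinearMap.restrict_apply]
    rw [S.X_comp hY₃, S.X_self hY₁]
  · rintro ⟨v, hv⟩
    apply Subtype.ext
    simp only [LinearMap.restrict_apply, Submodule.coe_add, Submodule.coe_smul]
    exact S.X_add h21 hh2 v
  · rintro ⟨v, hv⟩
    apply Subtype.ext
    simp only [LinearMap.restrict_apply, Submodule.coe_add, Submodule.coe_smul]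
    exact S.X_add h13 hh2 v
  · rintro ⟨v, hv⟩
    apply Subtype.ext
    simp only [LinearMap.restrict_apply, Submodule.coe_add, Submodule.coe_smul]
    rw [S.X_comp hY₁, S.X_comp hY₁]
    exact S.X_twist h3' h2' htw h23 hh2 ((hmem v).mp hv)

end Ops

end Cfsg.Agent.Lib.Zassen.Holonomy
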