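import Cfsg.Agent.Lib.Zassen.Klein
import Cfsg.Agent.Lib.Zassen.Holonomy
import Cfsg.Agent.Lib.Zassen.Checks

/-!
# Adjacency of elements of order three in a fixed-point-free linear group
-/

set_option autoImplicit false
set_option linter.unusedSectionVars false
set_option linter.style.haveILetI false

namespace Cfsg.Agent.Lib.Zassen.Frames

open Module Subgroup
open Cfsg.Agent.Lib.Zassen.Basic Cfsg.Agent.Lib.Zassen.Klein Cfsg.Agent.Lib.Zassen.Checks
open Cfsg.Agent.Lib.Zassen.Holonomy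

section Grp

variable {G : Type*} [Group G]

theorem O3.inv {x : G} (h : O3 x) : O3 x⁻¹ :=
  ⟨by rw [inv_pow, h.1, inv_one], inv_ne_one.mpr h.2⟩

theorem O3.conj {x : G} (g : G) (h : O3 x) : O3 (g * x * g⁻¹) :=
  ⟨by rw [conj_pow, h.1, mul_one, mul_inv_cancel], by
    intro e
    apply h.2
    have : x = g⁻¹ * (g * x * g⁻¹) * g := by group
    rw [this, e]
    group⟩

theorem O3.conj' {x : G} (g : G) (h : O3 x) : O3 (g⁻¹ * x * g) := by
  have := O3.conj g⁻¹ h
  rwa [inv_inv] at this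

theorem O3.mul3 {x : G} (h : O3 x) : x * x * x = 1 := by
  have := h.1
  rwa [pow_succ, pow_two] at this

theorem O3.inv_eq {x : G} (h : O3 x) : x⁻¹ = x * x :=
  (eq_inv_of_mul_eq_one_left (O3.mul3 h)).symm

/-- Adjacency. -/
def Adj (z x y : G) : Prop := (x * y) ^ 2 = z

/-- Being in the same orbit under conjugation by `a`. -/
def Orb (a y w : G) : Prop := w = y ∨ w = a * y * a⁻¹ ∨ w = a⁻¹ * y * a

theorem Orb.refl (a y : G) : Orb a y y := Or.inl rfl

theorem Orb.conj (a y : G) : Orb a y (a * y * a⁻¹) := Or.inr (Or.inl rfl)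

theorem Orb.conj' (a y : G) : Orb a y (a⁻¹ * y * a) := Or.inr (Or.inr rfl)

theorem Orb.symm {a y w : G} (h : Orb a y w) : Orb a w y := by
  rcases h with rfl | rfl | rfl
  · exact Orb.refl _ _
  · right; right; group
  · right; left; group

theorem Orb.trans {a y w u : G} (ha : O3 a) (h : Orb a y w) (h' : Orb a w u) : Orb a y u := by
  have e1 : a * a = a⁻¹ := (O3.inv_eq ha).symm
  rcases h with rfl | rfl | rfl
  · exact h'
  · rcases h' with rfl | rfl | rfl
    · exact Orb.conj _ _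
    · right; right
      have : a * (a * y * a⁻¹) * a⁻¹ = (a * a) * y * (a * a)⁻¹ := by group
      rw [this, e1, inv_inv]
    · left; group
  · rcases h' with rfl | rfl | rfl
    · exact Orb.conj' _ _
    · left; group
    · right; left
      have : a⁻¹ * (a⁻¹ * y * a) * a = (a * a)⁻¹ * y * (a * a) := by group
      rw [this, e1, inv_inv]

end Grp

section Ctx

variable {E V G : Type*} [Field E] [AddCommGroup V] [Module E V] [Group G]

/-- The standing hypotheses. -/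
structure Ctx (ρ : G →* Module.End E V) (z : G) (p : ℕ) : Prop where
  fpf : IsFPF ρ
  z2 : z ^ 2 = 1
  z1 : z ≠ 1
  hpow : ∀ x : G, x ^ p = 1 → x = 1

variable [Nontrivial V] {ρ : G →* Module.End E V} {z : G} {p : ℕ} (C : Ctx ρ z p)

include C

theorem Ctx.inv_eq {t : G} (h2 : t ^ 2 = 1) (h1 : t ≠ 1) : t = z :=
  invol_unique C.fpf h2 h1 C.z2 C.z1

theorem Ctx.zz : z * z = 1 := by
  rw [← pow_two, C.z2]

theorem Ctx.zinv : z⁻¹ = z := by
  rw [inv_eq_iff_mul_eq_one]; exact C.zz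

theorem Ctx.comm (g : G) : g * z = z * g := by
  have h : g * z * g⁻¹ = z := by
    apply C.inv_eq
    · rw [conj_pow, C.z2, mul_one, mul_inv_cancel]
    · intro e
      apply C.z1
      have : z = g⁻¹ * (g * z * g⁻¹) * g := by group
      rw [this, e]
      group
  exact mul_inv_eq_iff_eq_mul.mp h

theorem Ctx.lcomm (g h : G) : g * (z * h) = z * (g * h) := by
  rw [← mul_assoc, C.comm, mul_assoc]

theorem Ctx.zz' (g : G) : z * (z * g) = g := by
  rw [← mul_assoc, C.zz, one_mul]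

theorem Ctx.rho_z (v : V) : ρ z v = -v := rel_two_apply C.fpf C.z2 C.z1 v

theorem Ctx.two_ne : (2 : E) ≠ 0 := by
  intro h0
  obtain ⟨v, hv⟩ := exists_ne (0 : V)
  apply C.z1
  apply eq_one_of_fix C.fpf hv
  rw [C.rho_z]
  have : (2 : E) • v = 0 := by rw [h0, zero_smul]
  rw [two_smul] at this
  exact (eq_neg_of_add_eq_zero_left this).symm

theorem Ctx.not_o3_z : ¬ O3 z := by
  intro h
  apply C.z1
  have h1 := h.1
  rw [pow_succ, C.z2, one_mul] at h1
  exact h1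

theorem Ctx.three_ne {a : G} [Fact p.Prime] [CharP E p] (ha : O3 a) : (3 : E) ≠ 0 := by
  intro h0
  have h1 : p ∣ 3 := by
    have : ((3 : ℕ) : E) = 0 := by simpa using h0
    exact (CharP.cast_eq_zero_iff E p 3).mp this
  have hp3 : p = 3 := (Nat.prime_dvd_prime_iff_eq (Fact.out) Nat.prime_three).mp h1
  apply ha.2
  apply C.hpow
  rw [hp3]
  exact ha.1

theorem Ctx.cub {x : G} (hx : O3 x) : Cub (ρ x) := rel_three_apply C.fpf hx.1 hx.2

theorem Ctx.star_ring_of_adj {x y : G} (hx : O3 x) (hy : O3 y) (h : Adj z x y) :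
    ρ x * ρ y + ρ y * ρ x + ρ x + ρ y + 1 = 0 := by
  apply adj_rel (rel_three C.fpf hx.1 hx.2) (rel_three C.fpf hy.1 hy.2)
  rw [← map_mul, ← map_mul]
  have : (x * y) * (x * y) = z := by rw [← pow_two]; exact h
  rw [this]
  ext v
  rw [C.rho_z]
  simp

theorem Ctx.star_of_adj {x y : G} (hx : O3 x) (hy : O3 y) (h : Adj z x y) :
    Star (ρ x) (ρ y) := by
  intro v
  have := congrArg (fun T => T v) (C.star_ring_of_adj hx hy h)
  simpa [Module.End.mul_apply] using this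

theorem Ctx.adj_symm {x y : G} (h : Adj z x y) : Adj z y x := by
  unfold Adj at h ⊢
  have : (y * x) ^ 2 = y * (x * y) ^ 2 * y⁻¹ := by
    simp only [pow_two]; group
  rw [this, h, C.comm y, mul_inv_cancel_right]

theorem Ctx.adj_conj {x y : G} (g : G) (h : Adj z x y) :
    Adj z (g * x * g⁻¹) (g * y * g⁻¹) := by
  unfold Adj at h ⊢
  have : (g * x * g⁻¹ * (g * y * g⁻¹)) ^ 2 = g * (x * y) ^ 2 * g⁻¹ := by
    simp only [pow_two]; group
  rw [this, h, C.comm g, mul_inv_cancel_right]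

theorem Ctx.adj_left {a y : G} (ha : O3 a) (h : Adj z a y) : Adj z a (a * y * a⁻¹) := by
  have := C.adj_conj a h
  rwa [mul_inv_cancel_right] at this

theorem Ctx.adj_left' {a y : G} (ha : O3 a) (h : Adj z a y) : Adj z a (a⁻¹ * y * a) := by
  have := C.adj_conj a⁻¹ h
  rwa [inv_inv, inv_mul_cancel, one_mul] at this

theorem Ctx.adj_ncomm {x y : G} (hx : O3 x) (hy : O3 y) (h : Adj z x y) : x * y ≠ y * x := by
  intro hc
  unfold Adj at h
  apply C.not_o3_z
  refine ⟨?_, C.z1⟩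
  rw [← h, ← pow_mul, (show (x * y) ^ (2 * 3) = x ^ (2 * 3) * y ^ (2 * 3) from (Commute.mul_pow hc _))]
  rw [mul_comm 2 3, pow_mul, pow_mul, hx.1, hy.1]
  simp

theorem Ctx.comm_o3 [IsAlgClosed E] [FiniteDimensional E V] {a b : G} (ha : O3 a) (hb : O3 b)
    (hab : a * b = b * a) : b = a ∨ b = a⁻¹ := by
  obtain ⟨v, α, β, hv, hA, hB⟩ := exists_common_eigenvector (ρ a) (ρ b)
    (by rw [← map_mul, hab, map_mul])
  have qa : α ^ 2 + α + 1 = 0 := by
    have e := C.cub ha v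
    rw [hA, map_smul, hA] at e
    have e' : (α ^ 2 + α + 1) • v = 0 := by
      rw [← e]
      module
    exact (smul_eq_zero.mp e').resolve_right hv
  have qb : β ^ 2 + β + 1 = 0 := by
    have e := C.cub hb v
    rw [hB, map_smul, hB] at e
    have e' : (β ^ 2 + β + 1) • v = 0 := by
      rw [← e]
      module
    exact (smul_eq_zero.mp e').resolve_right hv
  have hc : (β - α) * (β + α + 1) = 0 := by linear_combination qb - qa
  have hAi : ρ a⁻¹ (α • v) = v := by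
    rw [← hA, ← Module.End.mul_apply, ← map_mul, inv_mul_cancel, map_one]
    rfl
  rcases mul_eq_zero.mp hc with h1 | h1
  · left
    have hβ : β = α := by linear_combination h1
    have : a⁻¹ * b = 1 := by
      apply eq_one_of_fix C.fpf hv
      rw [map_mul, Module.End.mul_apply, hB, hβ, hAi]
    exact (inv_mul_eq_one.mp this).symm
  · right
    have hβ : α * β = 1 := by
      have : β = -1 - α := by linear_combination h1
      rw [this]
      linear_combination (-1 : E) * qa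
    have : b * a = 1 := by
      apply eq_one_of_fix C.fpf hv
      rw [map_mul, Module.End.mul_apply, hA, map_smul, hB, smul_smul, hβ, one_smul]
    exact eq_inv_of_mul_eq_one_left this

section Typ

variable {H : Subgroup G} {n : ℕ} {π : H →* alternatingGroup (Fin n)}

omit C

/-- The homomorphism to the symmetric group. -/
def phi (π : H →* alternatingGroup (Fin n)) : H →* Equiv.Perm (Fin n) :=
  (alternatingGroup (Fin n)).subtype.comp π

theorem phi_apply (x : H) : phi π x = (π x : Equiv.Perm (Fin n)) := rfl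

theorem phi_eq_one {x : H} : phi π x = 1 ↔ π x = 1 := by
  rw [phi_apply]
  exact OneMemClass.coe_eq_one

include C

variable (hk : ∀ x : H, π x = 1 ↔ ((x : G) = 1 ∨ (x : G) = z))

include hk

theorem Ctx.phi_z {x : H} (hx : (x : G) = z) : phi π x = 1 :=
  phi_eq_one.mpr ((hk x).mpr (Or.inr hx))

theorem Ctx.phi_ne_one {x : H} (hx : O3 (x : G)) : phi π x ≠ 1 := by
  intro h
  rcases (hk x).mp (phi_eq_one.mp h) with h1 | h1
  · exact hx.2 h1
  · rw [h1] at hx
    exact C.not_o3_z hx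

theorem Ctx.phi_o3 {x : H} (hx : O3 (x : G)) : O3 (phi π x) := by
  refine ⟨?_, C.phi_ne_one hk hx⟩
  rw [← map_pow]
  have : x ^ 3 = 1 := Subtype.ext (by simpa using hx.1)
  rw [this, map_one]

theorem Ctx.phi_adj {x y : H} (hx : O3 (x : G)) (hy : O3 (y : G)) :
    Adj z (x : G) (y : G) ↔ Ad (phi π x) (phi π y) := by
  unfold Ad Adj
  constructor
  · intro h
    have h1 : (((x * y) ^ 2 : H) : G) = z := by simpa using h
    constructor
    · rw [← map_mul, ← map_pow]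
      exact C.phi_z hk h1
    · intro h2
      rw [← map_mul] at h2
      rcases (hk _).mp (phi_eq_one.mp h2) with h3 | h3
      · rw [Subgroup.coe_mul] at h3
        rw [h3] at h
        apply C.z1
        rw [← h]
        simp
      · rw [Subgroup.coe_mul] at h3
        rw [h3, C.z2] at h
        exact C.z1 h.symm
  · rintro ⟨h1, h2⟩
    rw [← map_mul, ← map_pow] at h1
    rw [← map_mul] at h2
    rcases (hk _).mp (phi_eq_one.mp h1) with h3 | h3
    · exfalso
      have h4 : ((x : G) * y) ^ 2 = 1 := by simpa using h3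
      by_cases h5 : (x : G) * y = 1
      · apply h2
        apply phi_eq_one.mpr
        apply (hk _).mpr
        left
        simpa using h5
      · apply h2
        apply phi_eq_one.mpr
        apply (hk _).mpr
        right
        simpa using C.inv_eq h4 h5
    · simpa using h3

theorem Ctx.phi_inj {x y : H} (hx : O3 (x : G)) (hy : O3 (y : G)) (h : phi π x = phi π y) :
    (x : G) = y := by
  have h1 : phi π (x⁻¹ * y) = 1 := by
    rw [map_mul, map_inv, h, inv_mul_cancel]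
  rcases (hk _).mp (phi_eq_one.mp h1) with h2 | h2
  · have : (x : G)⁻¹ * y = 1 := by simpa using h2
    exact (inv_mul_eq_one.mp this)
  · exfalso
    have h3 : (y : G) = x * z := by
      have : (x : G)⁻¹ * y = z := by simpa using h2
      rw [← this]
      group
    have h4 := hy.1
    rw [h3, (show (x : G) * z = z * x from C.comm _)] at h4
    rw [(show (z * (x : G)) ^ 3 = z ^ 3 * (x : G) ^ 3 from
      (Commute.mul_pow (C.comm (x : G)).symm 3)), hx.1, mul_one, pow_succ, C.z2, one_mul] at h4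
    exact C.z1 h4

theorem Ctx.phi_lift (hs : Function.Surjective π) {e : Equiv.Perm (Fin n)} (he : O3 e) :
    ∃ x : H, O3 (x : G) ∧ phi π x = e := by
  have hsg : Equiv.Perm.sign e = 1 := by
    have h1 : (Equiv.Perm.sign e) ^ 3 = 1 := by rw [← map_pow, he.1, map_one]
    rcases Int.units_eq_one_or (Equiv.Perm.sign e) with h | h
    · exact h
    · rw [h] at h1
      exact absurd h1 (by decide)
  obtain ⟨x, hx⟩ := hs ⟨e, Equiv.Perm.mem_alternatingGroup.mpr hsg⟩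
  have hφ : phi π x = e := by rw [phi_apply, hx]
  have h3 : phi π (x ^ 3) = 1 := by rw [map_pow, hφ, he.1]
  rcases (hk _).mp (phi_eq_one.mp h3) with h4 | h4
  · refine ⟨x, ⟨by simpa using h4, ?_⟩, hφ⟩
    intro h5
    apply he.2
    rw [← hφ, phi_eq_one]
    exact (hk x).mpr (Or.inl h5)
  · refine ⟨x ^ 4, ⟨?_, ?_⟩, ?_⟩
    · have h5 : (x : G) ^ 3 = z := by simpa using h4
      have e4 : (((x ^ 4 : H) : G)) ^ 3 = ((x : G) ^ 3) ^ 4 := by
        simp only [Subgroup.coe_pow, ← pow_mul]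
      rw [e4, h5]
      have : z ^ 4 = (z ^ 2) ^ 2 := by rw [← pow_mul]
      rw [this, C.z2, one_pow]
    · intro h5
      apply he.2
      rw [← hφ]
      have h6 : (x ^ 4 : H) = 1 := Subtype.ext h5
      have h7 := congrArg (phi π) h6
      rw [map_pow, pow_succ, map_one, ← map_pow, h3, one_mul] at h7
      exact h7
    · rw [pow_succ, map_mul, h3, one_mul, hφ]

/-- The kernel contains `z`, if the target has an involution. -/
theorem Ctx.z_mem (hs : Function.Surjective π) {e : alternatingGroup (Fin n)} (he2 : e ^ 2 = 1)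
    (he1 : e ≠ 1) : z ∈ H := by
  obtain ⟨x, hx⟩ := hs e
  have h2 : π (x ^ 2) = 1 := by rw [map_pow, hx, he2]
  rcases (hk _).mp h2 with h3 | h3
  · exfalso
    apply he1
    rw [← hx]
    apply (hk x).mpr
    by_cases h4 : (x : G) = 1
    · exact Or.inl h4
    · right
      exact C.inv_eq (by simpa using h3) h4
  · rw [← h3]
    exact Subgroup.pow_mem _ x.2 _

theorem Ctx.card_cov (hs : Function.Surjective π) (hz : z ∈ H) [Finite H] :
    Nat.card H = 2 * Nat.card (alternatingGroup (Fin n)) := by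
  classical
  have hker : (π.ker : Set H) = {1, ⟨z, hz⟩} := by
    ext x
    simp only [SetLike.mem_coe, MonoidHom.mem_ker, Set.mem_insert_iff, Set.mem_singleton_iff]
    rw [hk x]
    constructor
    · rintro (h | h)
      · left; exact Subtype.ext h
      · right; exact Subtype.ext h
    · rintro (h | h)
      · left; rw [h]; rfl
      · right; rw [h]
  have hcard : Nat.card π.ker = 2 := by
    have e1 : Nat.card π.ker = Nat.card (π.ker : Set H) := rfl
    rw [e1, hker, Nat.card_eq_fintype_card]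
    have hne : (1 : H) ≠ ⟨z, hz⟩ := by
      intro h
      apply C.z1
      exact (congrArg Subtype.val h).symm
    simp [Finset.card_pair hne]
  have := Subgroup.card_mul_index π.ker
  rw [hcard, Subgroup.index_ker, MonoidHom.range_eq_top.mpr hs] at this
  rw [← this]
  simp

end Typ

section Main

variable [IsAlgClosed E] [FiniteDimensional E V] [Finite G] [Fact p.Prime] [CharP E p]

theorem Ctx.typ_pair {a b : G} (ha : O3 a) (hb : O3 b) (hab : a * b ≠ b * a) :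
    (Typ 4 (closure ({a, b} : Set G)) z ∧ (Adj z a b ∨ Adj z a b⁻¹)) ∨
      Typ 5 (closure ({a, b} : Set G)) z := by
  obtain ⟨W, hW, h1, h2⟩ := exists_plane_pair C.fpf ha.1 ha.2 hb.1 hb.2 hab
  rcases typ_of_plane C.fpf C.z2 C.z1 C.hpow ({a, b} : Set G) ⟨a, by simp⟩ (by
      rintro s (rfl | rfl)
      · exact ha
      · exact hb) (by
      rintro s (rfl | rfl)
      · exact ⟨b, by simp, hab⟩
      · exact ⟨a, by simp, hab.symm⟩) W hW (by
      rintro s (rfl | rfl)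
      · exact h1
      · exact h2) with h | h
  · left
    refine ⟨h, ?_⟩
    obtain ⟨π, hs, hk⟩ := h
    have hamem : a ∈ closure ({a, b} : Set G) := subset_closure (by simp)
    have hbmem : b ∈ closure ({a, b} : Set G) := subset_closure (by simp)
    let x : closure ({a, b} : Set G) := ⟨a, hamem⟩
    let y : closure ({a, b} : Set G) := ⟨b, hbmem⟩
    have hx : O3 (x : G) := ha
    have hy : O3 (y : G) := hb
    have hyi : O3 ((y⁻¹ : closure ({a, b} : Set G)) : G) := by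
      rw [Subgroup.coe_inv]
      exact O3.inv hy
    have hnc : phi π x * phi π y ≠ phi π y * phi π x := by
      intro e
      have e1 : ((x * y * x⁻¹ : closure ({a, b} : Set G)) : G) = y := by
        apply C.phi_inj hk
        · simpa using O3.conj (x : G) hy
        · exact hy
        · rw [map_mul, map_mul, e, map_inv, mul_inv_cancel_right]
      apply hab
      have e2 : a * b * a⁻¹ = b := e1
      exact mul_inv_eq_iff_eq_mul.mp e2
    rcases c4_pair _ (C.phi_o3 hk hx) _ (C.phi_o3 hk hy) hnc with h3 | h3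
    · left
      exact (C.phi_adj hk hx hy).mpr h3
    · right
      rw [← map_inv] at h3
      exact (C.phi_adj hk hx hyi).mpr h3
  · right
    exact h

theorem Ctx.two_frames {a y₁ y₂ : G} (ha : O3 a) (h1 : O3 y₁) (h2 : O3 y₂)
    (ha1 : Adj z a y₁) (ha2 : Adj z a y₂) (hne : ¬ Orb a y₁ y₂) :
    Typ 5 (closure ({a, y₁, y₂} : Set G)) z ∧
      (Adj z y₁ y₂ ∨ Adj z y₁ (a * y₂ * a⁻¹) ∨ Adj z y₁ (a⁻¹ * y₂ * a)) := by
  have hc1 := C.adj_ncomm ha h1 ha1
  have hc2 := C.adj_ncomm ha h2 ha2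
  obtain ⟨W, hW, w0, w1, w2⟩ := exists_plane_triple C.two_ne C.fpf ha.1 ha.2 h1.1 h1.2 h2.1 h2.2
    (C.star_ring_of_adj ha h1 ha1) (C.star_ring_of_adj ha h2 ha2) hc1 hc2
  have hT : Typ 5 (closure ({a, y₁, y₂} : Set G)) z := by
    rcases typ_of_plane C.fpf C.z2 C.z1 C.hpow ({a, y₁, y₂} : Set G) ⟨a, by simp⟩ (by
        rintro s (rfl | rfl | rfl)
        · exact ha
        · exact h1
        · exact h2) (by
        rintro s (rfl | rfl | rfl)
        · exact ⟨y₁, by simp, hc1⟩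
        · exact ⟨a, by simp, hc1.symm⟩
        · exact ⟨a, by simp, hc2.symm⟩) W hW (by
        rintro s (rfl | rfl | rfl)
        · exact w0
        · exact w1
        · exact w2) with h | h
    · exfalso
      obtain ⟨π, hs, hk⟩ := h
      let L := closure ({a, y₁, y₂} : Set G)
      let x : L := ⟨a, subset_closure (by simp)⟩
      let y : L := ⟨y₁, subset_closure (by simp)⟩
      let w : L := ⟨y₂, subset_closure (by simp)⟩
      have hx : O3 (x : G) := ha
      have hy : O3 (y : G) := h1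
      have hw : O3 (w : G) := h2
      rcases c4_frames _ (C.phi_o3 hk hx) _ (C.phi_o3 hk hy) ((C.phi_adj hk hx hy).mp ha1) _
        (C.phi_o3 hk hw) ((C.phi_adj hk hx hw).mp ha2) with e | e | e
      · exact hne (Or.inl (C.phi_inj hk hw hy e))
      · refine hne (Or.inr (Or.inl ?_))
        have e' : phi π w = phi π (x * y * x⁻¹) := by
          rw [e, map_mul, map_mul, map_inv]
        exact C.phi_inj hk hw (by simpa using O3.conj (x : G) hy) e'
      · refine hne (Or.inr (Or.inr ?_))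
        have e' : phi π w = phi π (x⁻¹ * y * x) := by
          rw [e, map_mul, map_mul, map_inv]
        exact C.phi_inj hk hw (by simpa using O3.conj' (x : G) hy) e'
    · exact h
  refine ⟨hT, ?_⟩
  obtain ⟨π, hs, hk⟩ := hT
  let L := closure ({a, y₁, y₂} : Set G)
  let x : L := ⟨a, subset_closure (by simp)⟩
  let y : L := ⟨y₁, subset_closure (by simp)⟩
  let w : L := ⟨y₂, subset_closure (by simp)⟩
  have hx : O3 (x : G) := ha
  have hy : O3 (y : G) := h1
  have hw : O3 (w : G) := h2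
  have hinj : ∀ u : L, O3 (u : G) → phi π w = phi π u → y₂ = u := fun u hu e =>
    C.phi_inj hk hw hu e
  have n1 : phi π w ≠ phi π y := fun e => hne (Or.inl (hinj y hy e))
  have n2 : phi π w ≠ phi π x * phi π y * (phi π x)⁻¹ := fun e => by
    refine hne (Or.inr (Or.inl ?_))
    have e' : phi π w = phi π (x * y * x⁻¹) := by
      rw [e, map_mul, map_mul, map_inv]
    exact hinj _ (by simpa using O3.conj (x : G) hy) e'
  have n3 : phi π w ≠ (phi π x)⁻¹ * phi π y * phi π x := fun e => by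
    refine hne (Or.inr (Or.inr ?_))
    have e' : phi π w = phi π (x⁻¹ * y * x) := by
      rw [e, map_mul, map_mul, map_inv]
    exact hinj _ (by simpa using O3.conj' (x : G) hy) e'
  rcases c5_pair _ (C.phi_o3 hk hx) _ (C.phi_o3 hk hy) ((C.phi_adj hk hx hy).mp ha1) _
    (C.phi_o3 hk hw) ((C.phi_adj hk hx hw).mp ha2) n1 n2 n3 with e | e | e
  · left
    exact (C.phi_adj hk hy hw).mpr e
  · right; left
    have := (C.phi_adj hk (x := y) (y := x * w * x⁻¹) hy (by simpa using O3.conj (x : G) hw)).mpr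
      (by rwa [map_mul, map_mul, map_inv])
    simpa using this
  · right; right
    have := (C.phi_adj hk (x := y) (y := x⁻¹ * w * x) hy (by simpa using O3.conj' (x : G) hw)).mpr
      (by rwa [map_mul, map_mul, map_inv])
    simpa using this

/-- The holonomy obstruction, for the group. -/
theorem Ctx.no_twist {a y₁ y₂ y₃ : G} (ha : O3 a) (h1 : O3 y₁) (h2 : O3 y₂) (h3 : O3 y₃)
    (ha1 : Adj z a y₁) (ha2 : Adj z a y₂) (ha3 : Adj z a y₃) (h12 : Adj z y₁ y₂) (h13 : Adj z y₁ y₃)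
    (h23 : Adj z y₂ (a * y₃ * a⁻¹)) : False := by
  refine holonomy_ops (E := E) (V := V) C.two_ne (C.three_ne ha)
    (A := ρ a) (Y₁ := ρ y₁) (Y₂ := ρ y₂) (Y₃ := ρ y₃) (Y₃' := ρ (a * y₃ * a⁻¹))
    (C.cub ha) (C.cub h1) (C.cub h2) (C.cub h3) (C.star_of_adj ha h1 ha1) (C.star_of_adj ha h2 ha2)
    (C.star_of_adj ha h3 ha3) (C.star_of_adj h2 h1 (C.adj_symm h12)) (C.star_of_adj h1 h3 h13) ?_
    (C.star_of_adj h2 (O3.conj a h3) h23)
  intro v
  rw [← Module.End.mul_apply, ← map_mul, inv_mul_cancel_right, map_mul, Module.End.mul_apply]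

theorem Ctx.no_twist' {a y₁ y₂ y₃ : G} (ha : O3 a) (h1 : O3 y₁) (h2 : O3 y₂) (h3 : O3 y₃)
    (ha1 : Adj z a y₁) (ha2 : Adj z a y₂) (ha3 : Adj z a y₃) (h12 : Adj z y₁ y₂) (h13 : Adj z y₁ y₃)
    (h23 : Adj z y₂ (a⁻¹ * y₃ * a)) : False := by
  refine C.no_twist (y₁ := y₂) (y₂ := y₁) (y₃ := a⁻¹ * y₃ * a) ha h2 h1 (O3.conj' a h3) ha2 ha1
    (C.adj_left' ha ha3) (C.adj_symm h12) h23 ?_
  have : a * (a⁻¹ * y₃ * a) * a⁻¹ = y₃ := by group
  rw [this]
  exact h13

theorem Ctx.conj_rule {s t : G} (ht : O3 t) (h : Adj z s t) : t * s * t⁻¹ = z * (s⁻¹ * t) := by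
  have e1 : t * s * t = z * s⁻¹ := by
    have h1 : s * t * (s * t) = z := by rw [← pow_two]; exact h
    calc t * s * t = s⁻¹ * (s * t * (s * t)) := by group
      _ = s⁻¹ * z := by rw [h1]
      _ = z * s⁻¹ := C.comm _
  calc t * s * t⁻¹ = t * s * (t * t) := by rw [O3.inv_eq ht]
    _ = (t * s * t) * t := by group
    _ = z * (s⁻¹ * t) := by rw [e1, mul_assoc]

theorem Ctx.zdiv (u v : G) : (z * u) * (z * v)⁻¹ = u * v⁻¹ := by
  have : z * u * (z * v)⁻¹ = z * (u * v⁻¹) * z⁻¹ := by group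
  rw [this, ← C.comm, mul_inv_cancel_right]

/-- The element commuting with `a` built from three pairwise adjacent frames. -/
theorem Ctx.frames_comm {a y₁ y₂ y₃ : G} (ha : O3 a) (h1 : O3 y₁) (h2 : O3 y₂) (h3 : O3 y₃)
    (ha1 : Adj z a y₁) (ha2 : Adj z a y₂) (ha3 : Adj z a y₃) (h12 : Adj z y₁ y₂)
    (h13 : Adj z y₁ y₃) :
    a * (z * (y₁ * y₂⁻¹ * y₃ * y₁⁻¹)) = (z * (y₁ * y₂⁻¹ * y₃ * y₁⁻¹)) * a := by
  have e1 := C.conj_rule ha (C.adj_symm ha1)
  have e2 := C.conj_rule ha (C.adj_symm ha2)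
  have e3 := C.conj_rule ha (C.adj_symm ha3)
  have f2 := C.conj_rule h1 (C.adj_symm h12)
  have f3 := C.conj_rule h1 (C.adj_symm h13)
  have k1 : y₁ * (y₂ * y₃⁻¹) * y₁⁻¹ = y₂⁻¹ * y₃ := by
    calc y₁ * (y₂ * y₃⁻¹) * y₁⁻¹ = (y₁ * y₂ * y₁⁻¹) * (y₁ * y₃ * y₁⁻¹)⁻¹ := by group
      _ = (z * (y₂⁻¹ * y₁)) * (z * (y₃⁻¹ * y₁))⁻¹ := by rw [f2, f3]
      _ = (y₂⁻¹ * y₁) * (y₃⁻¹ * y₁)⁻¹ := C.zdiv _ _
      _ = y₂⁻¹ * y₃ := by group
  have k2 : y₁⁻¹ * y₂ * y₃⁻¹ * y₁ = y₁ * y₂⁻¹ * y₃ * y₁⁻¹ := by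
    have e5 : y₁ * y₂⁻¹ * y₃ * y₁⁻¹ = y₁ * (y₂⁻¹ * y₃) * y₁⁻¹ := by group
    rw [e5, ← k1]
    have e6 : y₁ * (y₁ * (y₂ * y₃⁻¹) * y₁⁻¹) * y₁⁻¹ =
      (y₁ * y₁) * (y₂ * y₃⁻¹) * (y₁ * y₁)⁻¹ := by group
    rw [e6, ← O3.inv_eq h1, inv_inv]
    group
  have k3 : a * (y₁ * y₂⁻¹ * y₃ * y₁⁻¹) * a⁻¹ = y₁ * y₂⁻¹ * y₃ * y₁⁻¹ := by
    calc a * (y₁ * y₂⁻¹ * y₃ * y₁⁻¹) * a⁻¹
        = ((a * y₁ * a⁻¹) * (a * y₂ * a⁻¹)⁻¹) * ((a * y₃ * a⁻¹) * (a * y₁ * a⁻¹)⁻¹) := by group
      _ = ((z * (y₁⁻¹ * a)) * (z * (y₂⁻¹ * a))⁻¹) * ((z * (y₃⁻¹ * a)) * (z * (y₁⁻¹ * a))⁻¹) := by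
          rw [e1, e2, e3]
      _ = ((y₁⁻¹ * a) * (y₂⁻¹ * a)⁻¹) * ((y₃⁻¹ * a) * (y₁⁻¹ * a)⁻¹) := by
          rw [C.zdiv, C.zdiv]
      _ = y₁⁻¹ * y₂ * y₃⁻¹ * y₁ := by group
      _ = _ := k2
  have k4 := mul_inv_eq_iff_eq_mul.mp k3
  calc a * (z * (y₁ * y₂⁻¹ * y₃ * y₁⁻¹)) = z * (a * (y₁ * y₂⁻¹ * y₃ * y₁⁻¹)) := C.lcomm _ _
    _ = _ := by rw [k4]; exact (mul_assoc _ _ _).symm

theorem Ctx.cube_rel {p' q : G} (hq : O3 q) (hp : O3 p') (h : Adj z p' q) :
    (p'⁻¹ * q) ^ 3 = z := by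
  have h1 : p' * q * (p' * q) = z := by rw [← pow_two]; exact h
  have e : p' * q * p' = z * q⁻¹ := by
    rw [← h1]; group
  have e2 : (z * q⁻¹) * (z * q⁻¹) = q := by
    rw [C.lcomm, mul_assoc z, C.zz', ← O3.inv_eq (O3.inv hq), inv_inv]
  calc (p'⁻¹ * q) ^ 3 = p' * ((p' * q * p') * (p' * q * p')) * (p' * q) := by
        rw [O3.inv_eq hp, pow_succ, pow_two]; group
    _ = p' * q * (p' * q) := by rw [e, e2]
    _ = z := h1

theorem Ctx.frames_o3 {y₁ y₂ y₃ : G} (h1 : O3 y₁) (h2 : O3 y₂) (h3 : O3 y₃)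
    (h23 : Adj z y₂ y₃) : O3 (z * (y₁ * y₂⁻¹ * y₃ * y₁⁻¹)) := by
  have hc := C.cube_rel h3 h2 h23
  have e1 : y₁ * y₂⁻¹ * y₃ * y₁⁻¹ = y₁ * (y₂⁻¹ * y₃) * y₁⁻¹ := by group
  constructor
  · rw [e1, (show (z * (y₁ * (y₂⁻¹ * y₃) * y₁⁻¹)) ^ 3 = z ^ 3 * (y₁ * (y₂⁻¹ * y₃) * y₁⁻¹) ^ 3 from
      Commute.mul_pow (C.comm _).symm 3), conj_pow, hc, C.comm y₁, mul_inv_cancel_right, pow_succ,
      C.z2, one_mul, C.zz]
  · intro e
    rw [e1] at e
    have e2 : y₁ * (y₂⁻¹ * y₃) * y₁⁻¹ = z := by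
      rw [← C.zz' (y₁ * (y₂⁻¹ * y₃) * y₁⁻¹), e, mul_one]
    have e3 : y₂⁻¹ * y₃ = z := by
      have : y₂⁻¹ * y₃ = y₁⁻¹ * (y₁ * (y₂⁻¹ * y₃) * y₁⁻¹) * y₁ := by group
      rw [this, e2, mul_assoc, ← C.comm y₁, inv_mul_cancel_left]
    have e4 : y₃ = z * y₂ := by
      rw [← C.comm, ← e3]
      group
    have e5 := h3.1
    rw [e4, (show (z * y₂) ^ 3 = z ^ 3 * y₂ ^ 3 from Commute.mul_pow (C.comm _).symm 3), h2.1,
      mul_one, pow_succ, C.z2, one_mul] at e5
    exact C.z1 e5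

omit C in
theorem exists_invol_five : ∃ e : alternatingGroup (Fin 5), e ^ 2 = 1 ∧ e ≠ 1 := by
  refine ⟨⟨Equiv.swap 0 1 * Equiv.swap 2 3, Equiv.Perm.mem_alternatingGroup.mpr (by decide)⟩,
    Subtype.ext (by decide), fun h => absurd (congrArg Subtype.val h) (by decide)⟩

omit C in
theorem exists_invol_four : ∃ e : alternatingGroup (Fin 4), e ^ 2 = 1 ∧ e ≠ 1 := by
  refine ⟨⟨Equiv.swap 0 1 * Equiv.swap 2 3, Equiv.Perm.mem_alternatingGroup.mpr (by decide)⟩,
    Subtype.ext (by decide), fun h => absurd (congrArg Subtype.val h) (by decide)⟩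

theorem Ctx.z_mem5 {H : Subgroup G} (hH : Typ 5 H z) : z ∈ H := by
  obtain ⟨π, hs, hk⟩ := hH
  obtain ⟨e, h2, h1⟩ := exists_invol_five
  exact C.z_mem hk hs h2 h1

theorem Ctx.z_mem4 {H : Subgroup G} (hH : Typ 4 H z) : z ∈ H := by
  obtain ⟨π, hs, hk⟩ := hH
  obtain ⟨e, h2, h1⟩ := exists_invol_four
  exact C.z_mem hk hs h2 h1

theorem Ctx.card5 {H : Subgroup G} (hH : Typ 5 H z) : Nat.card H = 120 := by
  have hz := C.z_mem5 hH
  obtain ⟨π, hs, hk⟩ := hH
  rw [C.card_cov hk hs hz, nat_card_alternatingGroup]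
  simp [Nat.factorial]

theorem Ctx.card4 {H : Subgroup G} (hH : Typ 4 H z) : Nat.card H = 24 := by
  have hz := C.z_mem4 hH
  obtain ⟨π, hs, hk⟩ := hH
  rw [C.card_cov hk hs hz, nat_card_alternatingGroup]
  simp [Nat.factorial]

/-- Three pairwise adjacent frames in distinct orbits do not exist. -/
theorem Ctx.three_frames_core {a y₁ y₂ y₃ : G} (ha : O3 a) (h1 : O3 y₁) (h2 : O3 y₂) (h3 : O3 y₃)
    (ha1 : Adj z a y₁) (ha2 : Adj z a y₂) (ha3 : Adj z a y₃) (h12 : Adj z y₁ y₂)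
    (h13 : Adj z y₁ y₃) (h23 : Adj z y₂ y₃)
    (n12 : ¬ Orb a y₁ y₂) (n13 : ¬ Orb a y₁ y₃) (n23 : ¬ Orb a y₂ y₃) : False := by
  obtain ⟨hT, -⟩ := C.two_frames ha h1 h2 ha1 ha2 n12
  have hd := C.frames_o3 h1 h2 h3 h23
  have hc := C.frames_comm ha h1 h2 h3 ha1 ha2 ha3 h12 h13
  have hd' := C.comm_o3 ha hd hc
  have hzL := C.z_mem5 hT
  set L := closure ({a, y₁, y₂} : Set G) with hL
  have haL : a ∈ L := subset_closure (by simp)
  have h1L : y₁ ∈ L := subset_closure (by simp)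
  have h2L : y₂ ∈ L := subset_closure (by simp)
  have hdL : z * (y₁ * y₂⁻¹ * y₃ * y₁⁻¹) ∈ L := by
    rcases hd' with e | e
    · rw [e]; exact haL
    · rw [e]; exact L.inv_mem haL
  have h3L : y₃ ∈ L := by
    have e : y₃ = y₂ * y₁⁻¹ * (z * (z * (y₁ * y₂⁻¹ * y₃ * y₁⁻¹))) * y₁ := by
      rw [C.zz']; group
    rw [e]
    exact L.mul_mem (L.mul_mem (L.mul_mem h2L (L.inv_mem h1L)) (L.mul_mem hzL hdL)) h1L
  obtain ⟨π, hs, hk⟩ := hT
  let x : L := ⟨a, haL⟩
  let u₁ : L := ⟨y₁, h1L⟩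
  let u₂ : L := ⟨y₂, h2L⟩
  let u₃ : L := ⟨y₃, h3L⟩
  have hx : O3 (x : G) := ha
  have hu₁ : O3 (u₁ : G) := h1
  have hu₂ : O3 (u₂ : G) := h2
  have hu₃ : O3 (u₃ : G) := h3
  rcases c5_two _ (C.phi_o3 hk hx) _ (C.phi_o3 hk hu₁) ((C.phi_adj hk hx hu₁).mp ha1) _
    (C.phi_o3 hk hu₂) ((C.phi_adj hk hx hu₂).mp ha2) ((C.phi_adj hk hu₁ hu₂).mp h12) _
    (C.phi_o3 hk hu₃) ((C.phi_adj hk hx hu₃).mp ha3) with e | e | e | e | e | e
  · exact n13 (Or.inl (C.phi_inj hk hu₃ hu₁ e))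
  · refine n13 (Or.inr (Or.inl (C.phi_inj hk (y := x * u₁ * x⁻¹) hu₃ ?_ ?_)))
    · simpa using O3.conj (x : G) hu₁
    · rw [e, map_mul, map_mul, map_inv]
  · refine n13 (Or.inr (Or.inr (C.phi_inj hk (y := x⁻¹ * u₁ * x) hu₃ ?_ ?_)))
    · simpa using O3.conj' (x : G) hu₁
    · rw [e, map_mul, map_mul, map_inv]
  · exact n23 (Or.inl (C.phi_inj hk hu₃ hu₂ e))
  · refine n23 (Or.inr (Or.inl (C.phi_inj hk (y := x * u₂ * x⁻¹) hu₃ ?_ ?_)))
    · simpa using O3.conj (x : G) hu₂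
    · rw [e, map_mul, map_mul, map_inv]
  · refine n23 (Or.inr (Or.inr (C.phi_inj hk (y := x⁻¹ * u₂ * x) hu₃ ?_ ?_)))
    · simpa using O3.conj' (x : G) hu₂
    · rw [e, map_mul, map_mul, map_inv]

/-- In the orbit of a frame there is one adjacent to a given frame. -/
theorem Ctx.exists_adj_orbit {a y₁ y₂ : G} (ha : O3 a) (h1 : O3 y₁) (h2 : O3 y₂)
    (ha1 : Adj z a y₁) (ha2 : Adj z a y₂) (hne : ¬ Orb a y₁ y₂) :
    ∃ y', Orb a y₂ y' ∧ O3 y' ∧ Adj z a y' ∧ Adj z y₁ y' := by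
  obtain ⟨-, h | h | h⟩ := C.two_frames ha h1 h2 ha1 ha2 hne
  · exact ⟨y₂, Orb.refl _ _, h2, ha2, h⟩
  · exact ⟨_, Orb.conj _ _, O3.conj a h2, C.adj_left ha ha2, h⟩
  · exact ⟨_, Orb.conj' _ _, O3.conj' a h2, C.adj_left' ha ha2, h⟩

/-- There are at most two orbits of frames. -/
theorem Ctx.three_frames_false {a y₁ y₂ y₃ : G} (ha : O3 a) (h1 : O3 y₁) (h2 : O3 y₂) (h3 : O3 y₃)
    (ha1 : Adj z a y₁) (ha2 : Adj z a y₂) (ha3 : Adj z a y₃)
    (n12 : ¬ Orb a y₁ y₂) (n13 : ¬ Orb a y₁ y₃) (n23 : ¬ Orb a y₂ y₃) : False := by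
  obtain ⟨u₂, o2, hu₂, ha2', h12⟩ := C.exists_adj_orbit ha h1 h2 ha1 ha2 n12
  obtain ⟨u₃, o3, hu₃, ha3', h13⟩ := C.exists_adj_orbit ha h1 h3 ha1 ha3 n13
  have n12' : ¬ Orb a y₁ u₂ := fun h => n12 (h.trans ha o2.symm)
  have n13' : ¬ Orb a y₁ u₃ := fun h => n13 (h.trans ha o3.symm)
  have n23' : ¬ Orb a u₂ u₃ := fun h => n23 ((o2.trans ha h).trans ha o3.symm)
  obtain ⟨-, h | h | h⟩ := C.two_frames ha hu₂ hu₃ ha2' ha3' n23'
  · exact C.three_frames_core ha h1 hu₂ hu₃ ha1 ha2' ha3' h12 h13 h n12' n13' n23'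
  · exact C.no_twist ha h1 hu₂ hu₃ ha1 ha2' ha3' h12 h13 h
  · exact C.no_twist' ha h1 hu₂ hu₃ ha1 ha2' ha3' h12 h13 h

omit C in
theorem ad_conj {Q : Type*} [Group Q] {x y : Q} (g : Q) (h : Ad x y) :
    Ad (g * x * g⁻¹) (g * y * g⁻¹) := by
  constructor
  · have : (g * x * g⁻¹ * (g * y * g⁻¹)) ^ 2 = g * (x * y) ^ 2 * g⁻¹ := by
      simp only [pow_two]; group
    rw [this, h.1, mul_one, mul_inv_cancel]
  · intro e
    apply h.2
    have : x * y = g⁻¹ * (g * x * g⁻¹ * (g * y * g⁻¹)) * g := by group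
    rw [this, e]
    group

/-- Each element of order three in a Typ 5 subgroup has two orbits of frames there. -/
theorem Ctx.frames_of_typ5 {L : Subgroup G} (hL : Typ 5 L z) {a : G} (haL : a ∈ L) (ha : O3 a) :
    ∃ y₁ y₂, y₁ ∈ L ∧ y₂ ∈ L ∧ O3 y₁ ∧ O3 y₂ ∧ Adj z a y₁ ∧ Adj z a y₂ ∧ ¬ Orb a y₁ y₂ := by
  obtain ⟨π, hs, hk⟩ := hL
  let x : L := ⟨a, haL⟩
  have hx : O3 (x : G) := ha
  obtain ⟨g, hg, -⟩ := c5_frames _ (C.phi_o3 hk hx)
  obtain ⟨s0, s1, s2, s3, s4, s5⟩ := c5_std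
  obtain ⟨n1, n2, n3⟩ := c5_std_ne
  obtain ⟨u, hu, hu'⟩ := C.phi_lift hk hs (O3.conj g s1)
  obtain ⟨w, hw, hw'⟩ := C.phi_lift hk hs (O3.conj g s2)
  have a1 : Ad (phi π x) (phi π u) := by
    rw [hu', ← hg]
    exact ad_conj g s3
  have a2 : Ad (phi π x) (phi π w) := by
    rw [hw', ← hg]
    exact ad_conj g s4
  refine ⟨u, w, u.2, w.2, hu, hw, (C.phi_adj hk hx hu).mpr a1, (C.phi_adj hk hx hw).mpr a2, ?_⟩
  have hinj : ∀ {s t : P5}, g * s * g⁻¹ = g * t * g⁻¹ → s = t := by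
    intro s t e
    have e1 := mul_left_cancel (mul_right_cancel e)
    exact e1
  rintro (e | e | e)
  · have e' : (w : G) = u := e
    have e2 : phi π w = phi π u := by
      rw [show w = u from Subtype.ext e']
    rw [hu', hw'] at e2
    exact n1 (hinj e2)
  · have e' : w = x * u * x⁻¹ := Subtype.ext (by simpa using e)
    have e2 : phi π w = phi π x * phi π u * (phi π x)⁻¹ := by
      rw [e', map_mul, map_mul, map_inv]
    rw [hu', hw', ← hg] at e2
    apply n2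
    apply hinj
    rw [e2]
    group
  · have e' : w = x⁻¹ * u * x := Subtype.ext (by simpa using e)
    have e2 : phi π w = (phi π x)⁻¹ * phi π u * phi π x := by
      rw [e', map_mul, map_mul, map_inv]
    rw [hu', hw', ← hg] at e2
    apply n3
    apply hinj
    rw [e2]
    group

/-- A Typ 5 subgroup contains all elements of order three. -/
theorem Ctx.o3_mem_of_typ5 {L : Subgroup G} (hL : Typ 5 L z) {b : G} (hb : O3 b) : b ∈ L := by
  by_contra hbL
  -- an element of order three in `L`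
  obtain ⟨a, haL, ha⟩ : ∃ a, a ∈ L ∧ O3 a := by
    obtain ⟨π, hs, hk⟩ := hL
    obtain ⟨x, hx, -⟩ := C.phi_lift hk hs c5_std.1
    exact ⟨x, x.2, hx⟩
  obtain ⟨y₁, y₂, h1L, h2L, h1, h2, ha1, ha2, n12⟩ := C.frames_of_typ5 hL haL ha
  have horb : ∀ {y w : G}, y ∈ L → Orb a y w → w ∈ L := by
    rintro y w hy (rfl | rfl | rfl)
    · exact hy
    · exact L.mul_mem (L.mul_mem haL hy) (L.inv_mem haL)
    · exact L.mul_mem (L.mul_mem (L.inv_mem haL) hy) haL
  -- a new frame gives a contradiction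
  have hnew : ∀ {y : G}, O3 y → Adj z a y → y ∉ L → False := by
    intro y hy hay hyL
    exact C.three_frames_false ha h1 h2 hy ha1 ha2 hay n12 (fun h => hyL (horb h1L h))
      (fun h => hyL (horb h2L h))
  have hab : a * b ≠ b * a := by
    intro e
    rcases C.comm_o3 ha hb e with rfl | rfl
    · exact hbL haL
    · exact hbL (L.inv_mem haL)
  rcases C.typ_pair ha hb hab with ⟨-, h | h⟩ | hT
  · exact hnew hb h hbL
  · exact hnew (O3.inv hb) h (fun h' => hbL (by simpa using L.inv_mem h'))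
  · have haH : a ∈ closure ({a, b} : Set G) := subset_closure (by simp)
    have hbH : b ∈ closure ({a, b} : Set G) := subset_closure (by simp)
    obtain ⟨u₁, u₂, u1H, u2H, hu1, hu2, au1, au2, n⟩ := C.frames_of_typ5 hT haH ha
    have u1L : u₁ ∈ L := by
      by_contra h
      exact hnew hu1 au1 h
    have u2L : u₂ ∈ L := by
      by_contra h
      exact hnew hu2 au2 h
    obtain ⟨hT', -⟩ := C.two_frames ha hu1 hu2 au1 au2 n
    have hcard := C.card5 hT'
    have hle1 : closure ({a, u₁, u₂} : Set G) ≤ L := by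
      rw [closure_le]
      rintro s (rfl | rfl | rfl)
      · exact haL
      · exact u1L
      · exact u2L
    have hle2 : closure ({a, u₁, u₂} : Set G) ≤ closure ({a, b} : Set G) := by
      rw [closure_le]
      rintro s (rfl | rfl | rfl)
      · exact haH
      · exact u1H
      · exact u2H
    have e1 : closure ({a, u₁, u₂} : Set G) = L :=
      Subgroup.eq_of_le_of_card_ge hle1 (by rw [C.card5 hL, hcard])
    have e2 : closure ({a, u₁, u₂} : Set G) = closure ({a, b} : Set G) :=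
      Subgroup.eq_of_le_of_card_ge hle2 (by rw [C.card5 hT, hcard])
    apply hbL
    rw [← e1, e2]
    exact hbH

end Main

end Ctx

end Cfsg.Agent.Lib.Zassen.Frames
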