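import Cfsg.Agent.Lib.Zassen.Basic
import Cfsg.Agent.Lib.Classical.SL2.Moebius

/-!
# Groups generated by elements of order `3` with an invariant plane

They are (coverings of) `A₄` or `A₅`, by the classification of finite subgroups of `PGL₂`.
-/

set_option autoImplicit false
set_option linter.unusedSectionVars false
set_option linter.style.haveILetI false

open scoped MatrixGroups
open Matrix

namespace Cfsg.Agent.Lib.Zassen.Klein

open Module Subgroup Cfsg.Agent.Lib.Zassen.Basic
open Cfsg.Agent.Lib.Classical.SL2.Klein Cfsg.Agent.Lib.Classical.SL2.Moebius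

variable {E V G : Type*} [Field E] [AddCommGroup V] [Module E V] [Group G]

/-- `H` covers `A_n` with kernel `{1, z}`. -/
def Typ (n : ℕ) (H : Subgroup G) (z : G) : Prop :=
  ∃ π : H →* alternatingGroup (Fin n), Function.Surjective π ∧
    ∀ x : H, π x = 1 ↔ ((x : G) = 1 ∨ (x : G) = z)

/-- A `2 × 2` matrix with `m² + m + 1 = 0` which is not scalar has determinant `1`. -/
theorem det_eq_one_of_rel (m : Matrix (Fin 2) (Fin 2) E) (hm : m * m + m + 1 = 0)
    (hns : ¬ (m 0 1 = 0 ∧ m 1 0 = 0 ∧ m 0 0 = m 1 1)) : m.det = 1 := by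
  have h00 := congrFun (congrFun hm 0) 0
  have h01 := congrFun (congrFun hm 0) 1
  have h10 := congrFun (congrFun hm 1) 0
  have h11 := congrFun (congrFun hm 1) 1
  simp [Matrix.mul_apply, Fin.sum_univ_two] at h00 h01 h10 h11
  rw [Matrix.det_fin_two]
  by_cases ht : m 0 0 + m 1 1 + 1 = 0
  · have e : m 1 1 = -1 - m 0 0 := by linear_combination ht
    rw [e]
    linear_combination (-1 : E) * h00
  · exfalso
    apply hns
    have h1 : m 0 1 = 0 := by
      have : m 0 1 * (m 0 0 + m 1 1 + 1) = 0 := by linear_combination h01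
      exact (mul_eq_zero.mp this).resolve_right ht
    have h2 : m 1 0 = 0 := by
      have : m 1 0 * (m 0 0 + m 1 1 + 1) = 0 := by linear_combination h10
      exact (mul_eq_zero.mp this).resolve_right ht
    refine ⟨h1, h2, ?_⟩
    have : (m 0 0 - m 1 1) * (m 0 0 + m 1 1 + 1) = 0 := by linear_combination h00 - h11
    have h3 := (mul_eq_zero.mp this).resolve_right ht
    exact sub_eq_zero.mp h3

variable {ρ : G →* Module.End E V}

section Res

variable (ρ) {H : Subgroup G} {W : Submodule E V}

/-- The restriction to an invariant subspace. -/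
def resHom (hinv : ∀ h : H, ∀ w ∈ W, ρ h w ∈ W) : H →* Module.End E W where
  toFun h := (ρ h).restrict (hinv h)
  map_one' := by
    ext w
    simp
  map_mul' x y := by
    ext w
    simp

@[simp] theorem resHom_apply (hinv : ∀ h : H, ∀ w ∈ W, ρ h w ∈ W) (h : H) (w : W) :
    ((resHom ρ hinv h w : W) : V) = ρ h w := rfl

end Res

/-- Invariance for the generated subgroup. -/
theorem invariant_closure [Finite G] {S : Set G} {W : Submodule E V}
    (hinv : ∀ s ∈ S, ∀ w ∈ W, ρ s w ∈ W) :
    ∀ h : closure S, ∀ w ∈ W, ρ h w ∈ W := by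
  rintro ⟨h, hh⟩
  have hpow : ∀ (x : G), (∀ w ∈ W, ρ x w ∈ W) → ∀ (n : ℕ), ∀ w ∈ W, ρ (x ^ n) w ∈ W := by
    intro x hx n
    induction n with
    | zero => intro w hw; simpa using hw
    | succ n ih =>
      intro w hw
      rw [pow_succ, map_mul]
      exact ih _ (hx _ hw)
  induction hh using Subgroup.closure_induction with
  | mem x hx => exact hinv x hx
  | one => intro w hw; simpa using hw
  | mul x y _ _ hx hy =>
    intro w hw
    rw [map_mul]
    exact hx _ (hy _ hw)
  | inv x _ hx =>
    have h1 : x⁻¹ = x ^ (orderOf x - 1) := by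
      rw [eq_comm, ← mul_eq_one_iff_eq_inv, ← pow_succ, Nat.sub_add_cancel (orderOf_pos x),
        pow_orderOf_eq_one]
    change ∀ w ∈ W, ρ x⁻¹ w ∈ W
    rw [h1]
    exact hpow x hx _

section Main

variable [IsAlgClosed E] [FiniteDimensional E V] [Nontrivial V] [Finite G]

/-- The main theorem of this file. -/
theorem typ_of_plane {p : ℕ} [hp : Fact p.Prime] [CharP E p] (hρ : IsFPF ρ) {z : G}
    (hz2 : z ^ 2 = 1) (hz1 : z ≠ 1) (hpow : ∀ x : G, x ^ p = 1 → x = 1)
    (S : Set G) (hne : S.Nonempty) (hS3 : ∀ s ∈ S, s ^ 3 = 1 ∧ s ≠ 1)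
    (hnc : ∀ s ∈ S, ∃ s' ∈ S, s * s' ≠ s' * s)
    (W : Submodule E V) (hW : Module.finrank E W = 2) (hinv : ∀ s ∈ S, ∀ w ∈ W, ρ s w ∈ W) :
    Typ 4 (closure S) z ∨ Typ 5 (closure S) z := by
  classical
  let H := closure S
  have hinvH : ∀ h : H, ∀ w ∈ W, ρ h w ∈ W := invariant_closure hinv
  haveI : Module.Finite E W := Module.finite_of_finrank_pos (by omega)
  let b : Module.Basis (Fin 2) E W := Module.finBasisOfFinrankEq E W hW
  let res : H →* Module.End E W := resHom ρ hinvH
  let φ : H →* Matrix (Fin 2) (Fin 2) E :=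
    ((LinearMap.toMatrixAlgEquiv b).toAlgHom.toRingHom.toMonoidHom).comp res
  have hφ : ∀ x : H, φ x = LinearMap.toMatrixAlgEquiv b (res x) := fun _ => rfl
  let M : H →* GL (Fin 2) E := φ.toHomUnits
  have hM : ∀ x : H, (M x : Matrix (Fin 2) (Fin 2) E) = φ x := fun _ => rfl
  let f : H →* PGL(Fin 2, E) := (Matrix.ProjGenLinGroup.mk).comp M
  -- scalar matrices act by scalars
  have hscalar : ∀ (x : H) (c : E), φ x = c • (1 : Matrix (Fin 2) (Fin 2) E) →
      ∀ w ∈ W, ρ x w = c • w := by
    intro x c hc w hw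
    have h1 : res x = c • (1 : Module.End E W) := by
      apply (LinearMap.toMatrixAlgEquiv b).injective
      rw [← hφ, hc, map_smul, map_one]
    have h2 := congrArg (fun T : Module.End E W => ((T ⟨w, hw⟩ : W) : V)) h1
    have h3 : ((res x ⟨w, hw⟩ : W) : V) = ρ x w := rfl
    rw [← h3]
    simpa using h2
  -- a point of the plane
  haveI : Nontrivial W := by
    apply Module.nontrivial_of_finrank_pos (R := E)
    omega
  obtain ⟨w₀, hw₀⟩ := exists_ne (0 : W)
  have hw₀' : (w₀ : V) ≠ 0 := fun h0 => hw₀ (Subtype.ext h0)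
  -- non-commuting generators are not scalar
  have hgen_ns : ∀ (s : H), (s : G) ∈ S → ∀ c : E, φ s ≠ c • (1 : Matrix (Fin 2) (Fin 2) E) := by
    intro s hs c hc
    obtain ⟨s', hs', hne'⟩ := hnc s hs
    have h1 := hscalar s c hc
    apply hne'
    have h2 : ρ ((s' * (s : G))⁻¹ * ((s : G) * s')) (w₀ : V) = w₀ := by
      have h3 : ρ ((s : G) * s') (w₀ : V) = ρ (s' * (s : G)) (w₀ : V) := by
        rw [map_mul, map_mul, Module.End.mul_apply, Module.End.mul_apply,
          h1 _ (hinv s' hs' _ w₀.2), h1 _ w₀.2, map_smul]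
      rw [map_mul, Module.End.mul_apply, h3, ← Module.End.mul_apply, ← map_mul, inv_mul_cancel,
        map_one]
      rfl
    have h4 := eq_one_of_fix hρ hw₀' h2
    exact inv_mul_eq_one.mp h4 |>.symm
  -- relation on generators
  have hgen_rel : ∀ (s : H), (s : G) ∈ S → φ s * φ s + φ s + 1 = 0 := by
    intro s hs
    have h1 : res s * res s + res s + 1 = 0 := by
      ext w
      have := rel_three_apply hρ (hS3 s hs).1 (hS3 s hs).2 (w : V)
      exact this
    have h2 := congrArg (LinearMap.toMatrixAlgEquiv b) h1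
    simpa [map_add, map_mul, map_one, map_zero, hφ] using h2
  -- determinant one
  have hgen : closure ((Subtype.val : H → G) ⁻¹' S) = ⊤ := Subgroup.closure_closure_coe_preimage
  have hdet : ∀ x : H, Matrix.GeneralLinearGroup.det (M x) = 1 := by
    intro x
    have hx : x ∈ closure ((Subtype.val : H → G) ⁻¹' S) := by rw [hgen]; trivial
    have hle : closure ((Subtype.val : H → G) ⁻¹' S) ≤ (Matrix.GeneralLinearGroup.det.comp M).ker := by
      rw [closure_le]
      intro s hs
      rw [SetLike.mem_coe, MonoidHom.mem_ker, MonoidHom.comp_apply]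
      apply Units.ext
      change (φ s).det = 1
      apply det_eq_one_of_rel _ (hgen_rel s hs)
      rintro ⟨h01, h10, h00⟩
      apply hgen_ns s hs (φ s 0 0)
      ext i j
      fin_cases i <;> fin_cases j <;> simp [h01, h10, h00]
    have := hle hx
    rwa [MonoidHom.mem_ker, MonoidHom.comp_apply] at this
  -- the kernel
  have hz_central : ∀ x : G, z * x = x * z := by
    intro x
    apply inj_of_nontrivial hρ
    ext v
    rw [map_mul, map_mul, Module.End.mul_apply, Module.End.mul_apply, rel_two_apply hρ hz2 hz1,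
      rel_two_apply hρ hz2 hz1, map_neg]
  have hker1 : ∀ x : H, f x = 1 → ((x : G) = 1 ∨ (x : G) = z) := by
    intro x hx
    rw [MonoidHom.comp_apply, Matrix.ProjGenLinGroup.mk_eq_one,
      Matrix.GeneralLinearGroup.center_eq_range_scalar] at hx
    obtain ⟨u, hu⟩ := hx
    have hu' : φ x = (u : E) • (1 : Matrix (Fin 2) (Fin 2) E) := by
      rw [← hM, ← hu]
      ext i j
      simp [Matrix.GeneralLinearGroup.scalar, Matrix.smul_apply, Matrix.one_apply, Matrix.diagonal_apply]
    have h1 := hscalar x u hu'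
    have hd : (u : E) * u = 1 := by
      have h2 := hdet x
      have h3 : (φ x).det = 1 := congrArg Units.val h2
      rw [hu', Matrix.det_smul, Matrix.det_one] at h3
      simpa [pow_two] using h3
    have hu2 : (u : E) = 1 ∨ (u : E) = -1 := mul_self_eq_one_iff.mp hd
    rcases hu2 with h2 | h2
    · left
      apply eq_one_of_fix hρ hw₀'
      rw [h1 _ w₀.2, h2, one_smul]
    · by_cases hx1 : (x : G) = 1
      · exact Or.inl hx1
      · right
        have hsq : (x : G) ^ 2 = 1 := by
          apply eq_one_of_fix hρ hw₀'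
          rw [pow_two, map_mul, Module.End.mul_apply, h1 _ w₀.2, h2, map_smul, h1 _ w₀.2, h2, smul_smul]
          simp
        exact invol_unique hρ hsq hx1 hz2 hz1
  have hker2 : ∀ x : H, ((x : G) = 1 ∨ (x : G) = z) → f x = 1 := by
    intro x hx
    rcases hx with hx | hx
    · have : x = 1 := Subtype.ext hx
      rw [this, map_one]
    · have h1 : res x = (-1 : E) • (1 : Module.End E W) := by
        ext w
        change ρ (x : G) (w : V) = _
        rw [hx, rel_two_apply hρ hz2 hz1]
        simp
      have h2 : φ x = (-1 : E) • (1 : Matrix (Fin 2) (Fin 2) E) := by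
        rw [hφ, h1, map_smul, map_one]
      have hne1 : (-1 : E) ≠ 0 := neg_ne_zero.mpr one_ne_zero
      have h3 : M x = Matrix.GeneralLinearGroup.scalar (Fin 2) (Units.mk0 (-1 : E) hne1) := by
        apply Units.ext
        rw [hM, h2]
        ext i j
        simp [Matrix.GeneralLinearGroup.scalar, Matrix.smul_apply, Matrix.one_apply, Matrix.diagonal_apply]
      rw [MonoidHom.comp_apply, h3, Matrix.ProjGenLinGroup.mk_scalar]
  -- commutators
  have hcomm_of : ∀ s s' : H, (s : G) ^ 3 = 1 → (s' : G) ^ 3 = 1 → f s * f s' = f s' * f s →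
      (s : G) * s' = s' * s := by
    intro s s' hs hs' hc
    have h1 : f (s * s' * s⁻¹ * s'⁻¹) = 1 := by
      rw [map_mul, map_mul, map_mul, hc, map_inv, map_inv]
      group
    rcases hker1 _ h1 with h2 | h2
    · have h3 : (s : G) * s' * (s : G)⁻¹ * (s' : G)⁻¹ = 1 := by simpa using h2
      have h4 : (s : G) * s' * (s : G)⁻¹ = s' := by
        rwa [mul_inv_eq_one] at h3
      rwa [mul_inv_eq_iff_eq_mul] at h4
    · exfalso
      have h3 : (s : G) * s' * (s : G)⁻¹ * (s' : G)⁻¹ = z := by simpa using h2
      have h4 : (s : G) * s' * (s : G)⁻¹ = z * s' := by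
        rw [mul_inv_eq_iff_eq_mul] at h3
        exact h3
      have h5 : ((s : G) * s' * (s : G)⁻¹) ^ 3 = 1 := by
        rw [conj_pow, hs', mul_one, mul_inv_cancel]
      rw [h4, (show Commute z (s' : G) from hz_central _).mul_pow, hs', mul_one] at h5
      apply hz1
      have h6 : z ^ 3 = z := by
        rw [pow_succ, hz2, one_mul]
      rwa [h6] at h5
  -- the non-identity generators
  obtain ⟨s₀, hs₀⟩ := hne
  obtain ⟨s₁, hs₁, hs₀₁⟩ := hnc s₀ hs₀
  let x₀ : H := ⟨s₀, subset_closure hs₀⟩
  let x₁ : H := ⟨s₁, subset_closure hs₁⟩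
  -- the Klein action
  let Hbar : Subgroup PGL(Fin 2, E) := f.range
  haveI : Finite Hbar := by
    have : Function.Surjective f.rangeRestrict := f.rangeRestrict_surjective
    exact Finite.of_surjective _ this
  let K : KleinAction Hbar (OnePoint E) E p :=
    (kleinPGL p).comap Hbar.subtype Subtype.val_injective (fun _ _ => rfl)
  have hsurj : Function.Surjective f.rangeRestrict := f.rangeRestrict_surjective
  have hunip : ∀ ω, K.unip ω = ⊥ := by
    intro ω
    rw [Subgroup.eq_bot_iff_forall]
    intro g hg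
    obtain ⟨h, rfl⟩ := hsurj g
    have h1 : (f.rangeRestrict h) ^ p = 1 := K.pow_p _ ω hg.1 hg.2
    have h2 : f (h ^ p) = 1 := by
      have := congrArg Subtype.val h1
      simpa using this
    have h3 : ((h : G) ^ 2) ^ p = 1 := by
      rw [← pow_mul, mul_comm, pow_mul]
      rcases hker1 _ h2 with h4 | h4
      · have h5 : (h : G) ^ p = 1 := by simpa using h4
        rw [h5, one_pow]
      · have h5 : (h : G) ^ p = z := by simpa using h4
        rw [h5, hz2]
    have h4 := hpow _ h3
    have h5 : f h = 1 := by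
      apply hker2
      by_cases h6 : (h : G) = 1
      · exact Or.inl h6
      · exact Or.inr (invol_unique hρ h4 h6 hz2 hz1)
    apply Subtype.ext
    simpa using h5
  have hp3 : p ≠ 3 := by
    intro h
    subst h
    exact (hS3 s₀ hs₀).2 (hpow _ (hS3 s₀ hs₀).1)
  have hfix_false : ∀ a b : OnePoint E, a ≠ b → (∀ g : Hbar, g • a = a ∧ g • b = b) → False := by
    intro a b hab hall
    haveI : IsCyclic (⊤ : Subgroup Hbar) := K.isCyclic_of_fix ⊤ hab (fun x _ => hall x)
    have hc : IsCyclic Hbar := isCyclic_of_surjective (Subgroup.topEquiv (G := Hbar)).toMonoidHom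
      (Subgroup.topEquiv (G := Hbar)).surjective
    have hcomm : f x₀ * f x₁ = f x₁ * f x₀ := by
      letI := hc.commGroup
      have := mul_comm (f.rangeRestrict x₀) (f.rangeRestrict x₁)
      exact congrArg Subtype.val this
    exact hs₀₁ (hcomm_of x₀ x₁ (hS3 s₀ hs₀).1 (hS3 s₁ hs₁).1 hcomm)
  have hclass := K.classification
  rcases hclass with h1 | ⟨a, b, hab, hall⟩ | ⟨a, b, hab, h1, h2, -, -⟩ | ⟨ω, hω, -⟩ | ⟨-, h1⟩ | ⟨h1, -⟩ | ⟨h', m, hT⟩
  · exfalso
    -- trivial image
    have h2 : f x₀ = 1 := by
      have h3 := (Nat.card_eq_one_iff_unique.mp h1).1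
      have h4 : f.rangeRestrict x₀ = 1 := Subsingleton.elim _ _
      exact congrArg Subtype.val h4
    rcases hker1 _ h2 with h3 | h3
    · exact (hS3 s₀ hs₀).2 h3
    · apply hz1
      have h4 : s₀ ^ 3 = 1 := (hS3 s₀ hs₀).1
      have h5 : s₀ = z := h3
      rw [h5] at h4
      have h6 : z ^ 3 = z := by
        rw [pow_succ, hz2, one_mul]
      rwa [h6] at h4
  · exact (hfix_false a b hab hall).elim
  · exfalso
    -- order three elements fix `a`
    apply hfix_false a b hab
    have hgenfix : ∀ s : H, (s : G) ∈ S → f.rangeRestrict s • a = a := by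
      intro s hs
      set g := f.rangeRestrict s with hg
      have hg3 : g ^ 3 = 1 := by
        rw [hg, ← map_pow]
        have : s ^ 3 = 1 := Subtype.ext (by simpa using (hS3 s hs).1)
        rw [this, map_one]
      by_contra hga
      have h3 : g • a = b := (h1 g).resolve_left hga
      have h4 : g • b = a := by
        have h5 := h1 (g ^ 2)
        rw [pow_two, mul_smul, h3] at h5
        rcases h5 with h5 | h5
        · exact h5
        · exfalso
          have h6 : g • b = g • a := by rw [h5, h3]
          exact hab (smul_left_cancel g h6).symm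
      have h5 : g ^ 3 • a = b := by
        rw [pow_succ, pow_two, mul_smul, mul_smul, h3, h4, h3]
      rw [hg3, one_smul] at h5
      exact hab h5
    have hle : closure ((Subtype.val : H → G) ⁻¹' S) ≤
        (MulAction.stabilizer Hbar a).comap f.rangeRestrict := by
      rw [closure_le]
      intro s hs
      exact hgenfix s hs
    intro g
    obtain ⟨h, rfl⟩ := hsurj g
    have h3 : h ∈ closure ((Subtype.val : H → G) ⁻¹' S) := by rw [hgen]; trivial
    have h4 : f.rangeRestrict h • a = a := hle h3
    exact ⟨h4, h2 _ h4⟩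
  · exact absurd (hunip ω) hω
  · rcases h1 with ⟨⟨e⟩⟩ | ⟨⟨e⟩⟩ | ⟨⟨e⟩⟩
    · left
      refine ⟨e.toMonoidHom.comp f.rangeRestrict, e.surjective.comp hsurj, fun x => ?_⟩
      constructor
      · intro h1
        apply hker1
        have h2 : e (f.rangeRestrict x) = 1 := h1
        have h3 : f.rangeRestrict x = 1 := by simpa using h2
        exact congrArg Subtype.val h3
      · intro h1
        have h2 : f x = 1 := hker2 x h1
        have h3 : f.rangeRestrict x = 1 := Subtype.ext h2
        change e (f.rangeRestrict x) = 1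
        rw [h3, map_one]
    · exfalso
      -- the sign
      let sg : H →* ℤˣ := Equiv.Perm.sign.comp (e.toMonoidHom.comp f.rangeRestrict)
      have hsg : closure ((Subtype.val : H → G) ⁻¹' S) ≤ sg.ker := by
        rw [closure_le]
        intro s hs
        rw [SetLike.mem_coe, MonoidHom.mem_ker]
        have h1 : (sg s) ^ 3 = 1 := by
          rw [← map_pow]
          have : s ^ 3 = 1 := Subtype.ext (by simpa using (hS3 s hs).1)
          rw [this, map_one]
        rcases Int.units_eq_one_or (sg s) with h2 | h2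
        · exact h2
        · rw [h2] at h1
          exact absurd h1 (by decide)
      rw [hgen] at hsg
      obtain ⟨y, hy⟩ := e.surjective (Equiv.swap (0 : Fin 4) 1)
      obtain ⟨x, rfl⟩ := hsurj y
      have h1 : sg x = 1 := hsg (Subgroup.mem_top x)
      have h2 : sg x = Equiv.Perm.sign (Equiv.swap (0 : Fin 4) 1) := by
        change Equiv.Perm.sign (e (f.rangeRestrict x)) = _
        rw [hy]
      rw [h2, Equiv.Perm.sign_swap (by decide)] at h1
      exact absurd h1 (by decide)
    · right
      refine ⟨e.toMonoidHom.comp f.rangeRestrict, e.surjective.comp hsurj, fun x => ?_⟩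
      constructor
      · intro h1
        apply hker1
        have h2 : e (f.rangeRestrict x) = 1 := h1
        have h3 : f.rangeRestrict x = 1 := by simpa using h2
        exact congrArg Subtype.val h3
      · intro h1
        have h2 : f x = 1 := hker2 x h1
        have h3 : f.rangeRestrict x = 1 := Subtype.ext h2
        change e (f.rangeRestrict x) = 1
        rw [h3, map_one]
  · exact absurd h1 hp3
  · obtain ⟨a, b, -, ha, -⟩ := hT.hexists
    exact absurd (hunip a) ha

end Main

end Cfsg.Agent.Lib.Zassen.Klein
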