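import Cfsg.Agent.Lib.Zassen.Core

/-!
# From fixed-point-free linear actions over prime fields to `SL(2,5)`
-/

set_option autoImplicit false
set_option linter.unusedSectionVars false
set_option linter.style.haveILetI false

namespace Cfsg.Agent.Lib.Zassen.Reduce

open Module Subgroup
open Cfsg.Agent.Lib.Zassen.Basic Cfsg.Agent.Lib.Zassen.Frames Cfsg.Agent.Lib.Zassen.Core
open scoped TensorProduct

/-- Over a field of characteristic `p`, elements of order `p` have fixed points. -/
theorem hpow_of_fpf {F V₀ G : Type*} [Field F] [AddCommGroup V₀] [Module F V₀] [Nontrivial V₀]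
    [Group G] {p : ℕ} [Fact p.Prime] [CharP F p] (ρ₀ : G →* Module.End F V₀) (h : IsFPF ρ₀) (x : G)
    (hx : x ^ p = 1) : x = 1 := by
  by_contra hx1
  haveI : CharP (Module.End F V₀) p := charP_of_injective_algebraMap
    (algebraMap F (Module.End F V₀)).injective p
  have h1 : (ρ₀ x - 1) ^ p = 0 := by
    rw [sub_pow_char_of_commute p (Commute.one_right _), one_pow, ← map_pow, hx, map_one, sub_self]
  have hinj : Function.Injective (ρ₀ x - 1 : Module.End F V₀) := by
    rw [injective_iff_map_eq_zero]
    intro v hv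
    apply h x hx1
    have : ρ₀ x v - v = 0 := hv
    exact sub_eq_zero.mp this
  have hinj2 : Function.Injective ((ρ₀ x - 1) ^ p : Module.End F V₀) := by
    rw [Module.End.coe_pow]
    exact hinj.iterate p
  rw [h1] at hinj2
  obtain ⟨v, hv⟩ := exists_ne (0 : V₀)
  exact hv (hinj2 (by simp))

/-- The linear form of Zassenhaus's theorem. -/
theorem linear_core {F V₀ G : Type*} [Field F] [AddCommGroup V₀] [Module F V₀]
    [FiniteDimensional F V₀] [Nontrivial V₀] [Group G] [Finite G] {p : ℕ} [hp : Fact p.Prime]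
    [CharP F p] (ρ₀ : G →* Module.End F V₀) (h : IsFPF ρ₀) {z : G} (hz2 : z ^ 2 = 1) (hz1 : z ≠ 1)
    (hperf : commutator G = ⊤) : Nonempty (G ≃* Matrix.SpecialLinearGroup (Fin 2) (ZMod 5)) := by
  let E := AlgebraicClosure F
  haveI : CharP E p := charP_of_injective_algebraMap (algebraMap F E).injective p
  let ρ : G →* Module.End E (E ⊗[F] V₀) :=
    (Module.End.baseChangeHom F E V₀).toMonoidHom.comp ρ₀
  haveI : Nontrivial (E ⊗[F] V₀) := by
    apply Module.nontrivial_of_finrank_pos (R := E)
    rw [Module.finrank_baseChange]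
    exact Module.finrank_pos
  have hfpf : IsFPF ρ := by
    intro g hg v hv
    have hinj : Function.Injective (ρ₀ g - 1 : Module.End F V₀) := by
      rw [injective_iff_map_eq_zero]
      intro w hw
      apply h g hg
      have : ρ₀ g w - w = 0 := hw
      exact sub_eq_zero.mp this
    have hinj2 : Function.Injective (LinearMap.baseChange E (ρ₀ g - 1 : Module.End F V₀)) := by
      rw [LinearMap.baseChange_eq_ltensor]
      exact Module.Flat.lTensor_preserves_injective_linearMap _ hinj
    apply hinj2
    have e1 : (LinearMap.baseChange E (ρ₀ g - 1 : Module.End F V₀)) v = ρ g v - v := by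
      have e2 : LinearMap.baseChange E (ρ₀ g - 1 : Module.End F V₀) =
          (ρ₀ g).baseChange E - (1 : Module.End F V₀).baseChange E :=
        LinearMap.baseChange_sub _ _
      rw [e2]
      have e3 : ((1 : Module.End F V₀).baseChange E) = LinearMap.id := by
        ext x
        simp
      rw [e3]
      rfl
    rw [e1, hv, sub_self, map_zero]
  have C : Ctx ρ z p := ⟨hfpf, hz2, hz1, hpow_of_fpf ρ₀ h⟩
  exact core C hperf

/-- The form of Zassenhaus's theorem over a prime field. -/
theorem zmod_core {V₀ G : Type*} [AddCommGroup V₀] {r : ℕ} [hr : Fact r.Prime] [Module (ZMod r) V₀]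
    [Finite V₀] [Nontrivial V₀] [Group G]
    [Finite G] (act : G → V₀ ≃+ V₀)
    (hact1 : ∀ v, act 1 v = v) (hactm : ∀ g h v, act (g * h) v = act g (act h v))
    (hfpf : ∀ g : G, g ≠ 1 → ∀ a : V₀, act g a = a → a = 0) {z : G} (hz2 : z ^ 2 = 1) (hz1 : z ≠ 1)
    (hperf : commutator G = ⊤) : Nonempty (G ≃* Matrix.SpecialLinearGroup (Fin 2) (ZMod 5)) := by
  haveI : NeZero r := ⟨hr.out.ne_zero⟩
  haveI : Fintype (ZMod r) := ZMod.fintype r
  haveI : FiniteDimensional (ZMod r) V₀ := Module.Finite.of_finite
  let ρ₀ : G →* Module.End (ZMod r) V₀ :=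
    { toFun := fun g => ((act g).toAddMonoidHom).toZModLinearMap r
      map_one' := by
        ext x
        simpa using hact1 x
      map_mul' := fun g h => by
        ext x
        simpa using hactm g h x }
  have hF : IsFPF ρ₀ := by
    intro g hg v hv
    exact hfpf g hg v hv
  exact linear_core (p := r) (F := ZMod r) ρ₀ hF hz2 hz1 hperf

/-- The form of Zassenhaus's theorem for a fixed-point-free action on an elementary abelian group,
written additively. -/
theorem elem_abelian_core_add {V₀ G : Type*} [AddCommGroup V₀] [Finite V₀] [Nontrivial V₀] [Group G]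
    [Finite G] {r : ℕ} [hr : Fact r.Prime] (hrA : ∀ a : V₀, r • a = 0) (act : G → V₀ ≃+ V₀)
    (hact1 : ∀ v, act 1 v = v) (hactm : ∀ g h v, act (g * h) v = act g (act h v))
    (hfpf : ∀ g : G, g ≠ 1 → ∀ a : V₀, act g a = a → a = 0) {z : G} (hz2 : z ^ 2 = 1) (hz1 : z ≠ 1)
    (hperf : commutator G = ⊤) : Nonempty (G ≃* Matrix.SpecialLinearGroup (Fin 2) (ZMod 5)) := by
  letI : Module (ZMod r) V₀ := AddCommGroup.zmodModule hrA
  exact zmod_core (r := r) act hact1 hactm hfpf hz2 hz1 hperf

/-- The form of Zassenhaus's theorem for a fixed-point-free action on an elementary abelian group. -/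
theorem elem_abelian_core {A G : Type*} [CommGroup A] [Finite A] [Nontrivial A] [Group G] [Finite G]
    {r : ℕ} [hr : Fact r.Prime] (hrA : ∀ a : A, a ^ r = 1) (act : G →* MulAut A)
    (hfpf : ∀ g : G, g ≠ 1 → ∀ a : A, act g a = a → a = 1) {z : G} (hz2 : z ^ 2 = 1) (hz1 : z ≠ 1)
    (hperf : commutator G = ⊤) : Nonempty (G ≃* Matrix.SpecialLinearGroup (Fin 2) (ZMod 5)) := by
  refine elem_abelian_core_add (r := r) (V₀ := Additive A) ?_ (fun g => (act g).toAdditive) ?_ ?_ ?_
    hz2 hz1 hperf
  · intro a
    change Additive.ofMul ((Additive.toMul a) ^ r) = 0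
    rw [hrA]
    rfl
  · intro v
    change Additive.ofMul (act 1 (Additive.toMul v)) = v
    rw [map_one]
    rfl
  · intro g h v
    change Additive.ofMul (act (g * h) (Additive.toMul v)) =
      Additive.ofMul (act g (act h (Additive.toMul v)))
    rw [map_mul]
    rfl
  · intro g hg a ha
    exact hfpf g hg (Additive.toMul a) ha

end Cfsg.Agent.Lib.Zassen.Reduce
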