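import Cfsg.Agent.Lib.Zassen.Reduce
import Cfsg.Agent.S0040
import Cfsg.Agent.S0068

/-!
# Fixed-point-free automorphism groups of finite groups
-/

set_option autoImplicit false
set_option linter.unusedSectionVars false
set_option linter.style.haveILetI false

namespace Cfsg.Agent.Lib.Zassen.Semi

open Subgroup
open Cfsg.Agent.Lib.Zassen.Reduce Cfsg.Agent.Lib.Zassen.Unique

/-- Zassenhaus's theorem for perfect groups of fixed-point-free automorphisms of an abelian group. -/
theorem comm_core {K G : Type*} [Group K] [Finite K] [Nontrivial K] [Group G] [Finite G]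
    (hcomm : ∀ a b : K, a * b = b * a) (act : G →* MulAut K)
    (hfpf : ∀ g : G, g ≠ 1 → ∀ k : K, act g k = k → k = 1) {z : G} (hz2 : z ^ 2 = 1) (hz1 : z ≠ 1)
    (hperf : commutator G = ⊤) : Nonempty (G ≃* Matrix.SpecialLinearGroup (Fin 2) (ZMod 5)) := by
  have hr1 : Nat.card K ≠ 1 := Finite.one_lt_card_iff_nontrivial.mpr inferInstance |>.ne'
  let r := Nat.minFac (Nat.card K)
  haveI hr : Fact r.Prime := ⟨Nat.minFac_prime hr1⟩
  let A : Subgroup K :=
    { carrier := {k | k ^ r = 1}
      mul_mem' := fun {a b} ha hb => by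
        change (a * b) ^ r = 1
        rw [Commute.mul_pow (hcomm a b), ha, hb, one_mul]
      one_mem' := one_pow r
      inv_mem' := fun {a} ha => by
        change a⁻¹ ^ r = 1
        rw [inv_pow, ha, inv_one] }
  letI : CommGroup A :=
    { (inferInstance : Group A) with
      mul_comm := fun a b => Subtype.ext (hcomm a b) }
  obtain ⟨x, hx⟩ := exists_prime_orderOf_dvd_card' (G := K) r (Nat.minFac_dvd _)
  have hxA : x ^ r = 1 := by rw [← hx]; exact pow_orderOf_eq_one x
  haveI : Nontrivial A := by
    refine ⟨⟨⟨x, hxA⟩, 1, fun h => ?_⟩⟩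
    have h1 : x = 1 := congrArg Subtype.val h
    rw [h1, orderOf_one] at hx
    exact hr.out.one_lt.ne hx
  let act₀ : G → MulAut A := fun g =>
    { toFun := fun a => ⟨act g a, by
        change (act g a) ^ r = 1
        rw [← map_pow, show (a : K) ^ r = 1 from a.2, map_one]⟩
      invFun := fun a => ⟨(act g)⁻¹ a, by
        change ((act g)⁻¹ a) ^ r = 1
        rw [← map_pow, show (a : K) ^ r = 1 from a.2, map_one]⟩
      left_inv := fun a => Subtype.ext (by simp)
      right_inv := fun a => Subtype.ext (by simp)
      map_mul' := fun a b => Subtype.ext (by simp) }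
  let act' : G →* MulAut A :=
    { toFun := act₀
      map_one' := by
        ext a
        simp [act₀]
      map_mul' := fun g h => by
        ext a
        simp [act₀] }
  refine elem_abelian_core (r := r) (fun a => ?_) act' (fun g hg a ha => ?_) hz2 hz1 hperf
  · exact Subtype.ext a.2
  · have h1 : act g (a : K) = a := congrArg Subtype.val ha
    exact Subtype.ext (hfpf g hg a h1)

section SemiP

variable {K G : Type*} [Group K] [Finite K] [Nontrivial K] [Group G] [Finite G]
  (act : G →* MulAut K) (hfpf : ∀ g : G, g ≠ 1 → ∀ k : K, act g k = k → k = 1)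

instance : Finite (SemidirectProduct K G act) :=
  Finite.of_equiv _ (SemidirectProduct.equivProd (N := K) (G := G) (φ := act)).symm

/-- The normal factor in the semidirect product. -/
abbrev Kp (act : G →* MulAut K) : Subgroup (SemidirectProduct K G act) :=
  (SemidirectProduct.inl : K →* SemidirectProduct K G act).range

/-- The complement factor in the semidirect product. -/
abbrev Hp (act : G →* MulAut K) : Subgroup (SemidirectProduct K G act) :=
  (SemidirectProduct.inr : G →* SemidirectProduct K G act).range

instance : (Kp act).Normal := by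
  rw [Kp, SemidirectProduct.range_inl_eq_ker_rightHom]
  infer_instance

theorem isCompl : IsComplement' (Kp act) (Hp act) := by
  apply isComplement'_of_disjoint_and_mul_eq_univ
  · rw [Subgroup.disjoint_def]
    rintro _ ⟨a, rfl⟩ ⟨b, hb⟩
    have h1 := congrArg SemidirectProduct.left hb
    have h2 := congrArg SemidirectProduct.right hb
    simp at h1 h2
    rw [← h1]
    simp
  · rw [Set.eq_univ_iff_forall]
    intro x
    refine Set.mem_mul.mpr ⟨_, ⟨x.left, rfl⟩, _, ⟨x.right, rfl⟩, ?_⟩
    exact SemidirectProduct.inl_left_mul_inr_right x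

theorem Kp_ne_bot : Kp act ≠ ⊥ := by
  obtain ⟨a, ha⟩ := exists_ne (1 : K)
  intro h
  have h1 : (SemidirectProduct.inl a : SemidirectProduct K G act) ∈ Kp act := ⟨a, rfl⟩
  rw [h, Subgroup.mem_bot] at h1
  apply ha
  have h2 := congrArg SemidirectProduct.left h1
  simpa using h2

include hfpf in
theorem Hp_fpf : ∀ h ∈ Hp act, h ≠ 1 → Kp act ⊓ centralizer {h} = ⊥ := by
  rintro _ ⟨g, rfl⟩ hg
  have hg1 : g ≠ 1 := by
    rintro rfl
    exact hg (map_one _)
  rw [eq_bot_iff]
  rintro _ ⟨⟨k, rfl⟩, hc⟩
  rw [Subgroup.mem_bot]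
  have hc' := mem_centralizer_singleton_iff.mp hc
  have h1 : (SemidirectProduct.inl (act g k) : SemidirectProduct K G act) = SemidirectProduct.inl k := by
    rw [SemidirectProduct.inl_aut, ← hc', map_inv, mul_inv_cancel_right]
  have h2 : act g k = k := SemidirectProduct.inl_injective h1
  rw [hfpf g hg1 k h2, map_one]

theorem card_Hp : Nat.card (Hp act) = Nat.card G :=
  (Nat.card_congr (MonoidHom.ofInjective (SemidirectProduct.inr_injective (φ := act))).toEquiv).symm

include hfpf in
/-- The group is abelian if the group of automorphisms has even order. -/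
theorem abelian_of_even (h2 : 2 ∣ Nat.card G) (a b : K) : a * b = b * a := by
  obtain ⟨-, hc⟩ := Cfsg.Agent.S0068.result (Kp act) (Hp act) (isCompl act) (Kp_ne_bot act)
    (Hp_fpf act hfpf) (by rw [card_Hp]; exact h2)
  have h := hc.is_comm.comm ⟨SemidirectProduct.inl a, a, rfl⟩ ⟨SemidirectProduct.inl b, b, rfl⟩
  have h1 := congrArg Subtype.val h
  apply SemidirectProduct.inl_injective (φ := act)
  simpa using h1

include hfpf in
/-- All Sylow subgroups are cyclic for a group of odd order. -/
theorem isZGroup_of_odd (h2 : ¬ 2 ∣ Nat.card G) : IsZGroup G := by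
  have hZ : IsZGroup (Hp act) := by
    refine ⟨fun q hq P => ?_⟩
    haveI : Fact q.Prime := ⟨hq⟩
    rcases Cfsg.Agent.S0040.result (Kp act) (Hp act) (isCompl act) (Kp_ne_bot act)
      (Hp_fpf act hfpf) q P with h | ⟨n, ⟨e⟩⟩
    · exact h
    · exfalso
      apply h2
      have h3 : Nat.card (QuaternionGroup (2 ^ n)) = Nat.card P := Nat.card_congr e.symm.toEquiv
      rw [Nat.card_eq_fintype_card, QuaternionGroup.card] at h3
      have h4 : Nat.card P ∣ Nat.card (Hp act) := Subgroup.card_subgroup_dvd_card _
      rw [card_Hp, ← h3] at h4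
      exact (Dvd.intro_left (2 * 2 ^ n) (by ring)).trans h4
  exact IsZGroup.of_injective (f := (SemidirectProduct.inr (φ := act)).rangeRestrict)
    ((SemidirectProduct.inr (φ := act)).rangeRestrict_injective_iff.mpr SemidirectProduct.inr_injective)

include hfpf in
/-- Zassenhaus's theorem on perfect groups of fixed-point-free automorphisms. -/
theorem perfect_core [Nontrivial G] (hperf : commutator G = ⊤) :
    Nonempty (G ≃* Matrix.SpecialLinearGroup (Fin 2) (ZMod 5)) := by
  by_cases h2 : 2 ∣ Nat.card G
  · obtain ⟨z, hz⟩ := exists_prime_orderOf_dvd_card' (p := 2) (G := G) h2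
    have hz2 : z ^ 2 = 1 := by rw [← hz]; exact pow_orderOf_eq_one z
    have hz1 : z ≠ 1 := by
      rintro rfl
      rw [orderOf_one] at hz
      omega
    exact comm_core (abelian_of_even act hfpf h2) act hfpf hz2 hz1 hperf
  · exfalso
    haveI := isZGroup_of_odd act hfpf h2
    have := perf_solv hperf (MonoidHom.id G) Function.surjective_id
    exact not_subsingleton G this

end SemiP

end Cfsg.Agent.Lib.Zassen.Semi
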