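import Cfsg.Agent.Lib.Zassen.Semi

/-!
# The structure of fixed-point-free linear groups containing a subgroup of type `2·A₅`
-/

set_option autoImplicit false
set_option linter.unusedSectionVars false
set_option linter.style.haveILetI false

namespace Cfsg.Agent.Lib.Zassen.Struct

open Module Subgroup
open Cfsg.Agent.Lib.Zassen.Basic Cfsg.Agent.Lib.Zassen.Klein Cfsg.Agent.Lib.Zassen.Checks
open Cfsg.Agent.Lib.Zassen.Frames Cfsg.Agent.Lib.Zassen.Tau Cfsg.Agent.Lib.Zassen.Unique
open Cfsg.Agent.Lib.Zassen.Core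

universe u

variable {E V G : Type*} [Field E] [AddCommGroup V] [Module E V] [Group G]
  [Nontrivial V] {ρ : G →* Module.End E V} {z : G} {p : ℕ}
  [IsAlgClosed E] [FiniteDimensional E V] [Finite G] [Fact p.Prime] [CharP E p]

/-- The action on a normal subgroup of type `2·A₅`. -/
theorem typ5_struct (C : Ctx ρ z p) {L : Subgroup G} {π : L →* alternatingGroup (Fin 5)}
    (hs : Function.Surjective π) (hk : ∀ x : L, π x = 1 ↔ ((x : G) = 1 ∨ (x : G) = z)) :
    L.Normal ∧ ∃ T : G →* Equiv.Perm (Fin 5), (∀ l : L, T l = phi π l) ∧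
      (∀ c : G, T c = 1 → ∀ l ∈ L, c * l * c⁻¹ = l) ∧
      (∀ k : G, T k = 1 → k ^ 2 ≠ z) ∧
      (∀ x : G, T x = 1 → ∀ k : ℕ, x ^ 2 ^ k = 1 → x = 1 ∨ x = z) ∧
      IsZGroup T.ker := by
  have hL : Typ 5 L z := ⟨π, hs, hk⟩
  have hcard := C.card5 hL
  have hzL := C.z_mem5 hL
  have hallL : ∀ b : G, O3 b → b ∈ L := fun b hb => C.o3_mem_of_typ5 hL hb
  obtain ⟨s0, s1, s2, s3, s4, s5⟩ := c5_std
  obtain ⟨n1, n2, n3⟩ := c5_std_ne
  obtain ⟨u₀, hu₀, hu₀'⟩ := C.phi_lift hk hs s0
  obtain ⟨u₁, hu₁, hu₁'⟩ := C.phi_lift hk hs s1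
  obtain ⟨u₂, hu₂, hu₂'⟩ := C.phi_lift hk hs s2
  have a01 : Adj z (u₀ : G) u₁ := by
    rw [C.phi_adj hk hu₀ hu₁, hu₀', hu₁']
    exact s3
  have a02 : Adj z (u₀ : G) u₂ := by
    rw [C.phi_adj hk hu₀ hu₂, hu₀', hu₂']
    exact s4
  have a12 : Adj z (u₁ : G) u₂ := by
    rw [C.phi_adj hk hu₁ hu₂, hu₁', hu₂']
    exact s5
  have hno : ¬ Orb (u₀ : G) u₁ u₂ := by
    rintro (e | e | e)
    · have e' : u₂ = u₁ := Subtype.ext e
      rw [e', hu₁'] at hu₂'
      exact n1 hu₂'.symm
    · have e' : u₂ = u₀ * u₁ * u₀⁻¹ := Subtype.ext (by simpa using e)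
      apply n2
      rw [← hu₂', e', map_mul, map_mul, map_inv, hu₀', hu₁']
    · have e' : u₂ = u₀⁻¹ * u₁ * u₀ := Subtype.ext (by simpa using e)
      apply n3
      rw [← hu₂', e', map_mul, map_mul, map_inv, hu₀', hu₁']
  have hle : closure ({(u₀ : G), (u₁ : G), (u₂ : G)} : Set G) ≤ L := by
    rw [closure_le]
    rintro s (rfl | rfl | rfl)
    · exact u₀.2
    · exact u₁.2
    · exact u₂.2
  have hgen : L = closure ({(u₀ : G), (u₁ : G), (u₂ : G)} : Set G) := by
    symm
    apply Subgroup.eq_of_le_of_card_ge hle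
    rw [hcard, C.card5 (C.two_frames hu₀ hu₁ hu₂ a01 a02 hno).1]
  haveI hN : L.Normal := by
    rw [hgen]
    apply normal_closure_of_o3
    · rintro s (rfl | rfl | rfl)
      · exact hu₀
      · exact hu₁
      · exact hu₂
    · intro b hb
      rw [← hgen]
      exact hallL b hb
  obtain ⟨T, hT, hTL⟩ := tau_exists (phi π) ![u₀, u₁, u₂] (by rw [range_three]; exact hgen)
    (by
      intro g
      have h0 : O3 ((cj L g u₀ : L) : G) := O3.conj g hu₀
      have h1 : O3 ((cj L g u₁ : L) : G) := O3.conj g hu₁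
      have h2 : O3 ((cj L g u₂ : L) : G) := O3.conj g hu₂
      have h01 : Adj z ((cj L g u₀ : L) : G) ((cj L g u₁ : L) : G) := C.adj_conj g a01
      have h02 : Adj z ((cj L g u₀ : L) : G) ((cj L g u₂ : L) : G) := C.adj_conj g a02
      have h12 : Adj z ((cj L g u₁ : L) : G) ((cj L g u₂ : L) : G) := C.adj_conj g a12
      obtain ⟨τ, e0, e1, e2⟩ := c5_trans _ (C.phi_o3 hk h0) _ (C.phi_o3 hk h1)
        ((C.phi_adj hk h0 h1).mp h01) _ (C.phi_o3 hk h2) ((C.phi_adj hk h0 h2).mp h02)
        ((C.phi_adj hk h1 h2).mp h12)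
      refine ⟨τ, fun i => ?_⟩
      fin_cases i
      · simpa [hu₀'] using e0
      · simpa [hu₁'] using e1
      · simpa [hu₂'] using e2)
    (by
      intro τ h
      have e0 := h 0
      have e1 := h 1
      have e2 := h 2
      simp only [Matrix.cons_val_zero, Matrix.cons_val_one, Matrix.cons_val, hu₀', hu₁', hu₂']
        at e0 e1 e2
      exact c5_uniq τ e0 e1 e2)
  -- the kernel of `T` centralizes `L`
  have hcent : ∀ c : G, T c = 1 → ∀ l ∈ L, c * l * c⁻¹ = l := by
    intro c hc
    have hgens : ∀ u : L, O3 (u : G) → c * u * c⁻¹ = u := by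
      intro u hu
      have e := hT c u
      rw [hc, one_mul, inv_one, mul_one] at e
      exact (C.phi_inj hk hu (y := cj L c u) (O3.conj c hu) e).symm
    have hle' : L ≤ centralizer {c} := by
      rw [hgen, closure_le]
      rintro s (rfl | rfl | rfl)
      · rw [SetLike.mem_coe, mem_centralizer_singleton_iff]
        exact mul_inv_eq_iff_eq_mul.mp (hgens u₀ hu₀) |>.symm
      · rw [SetLike.mem_coe, mem_centralizer_singleton_iff]
        exact mul_inv_eq_iff_eq_mul.mp (hgens u₁ hu₁) |>.symm
      · rw [SetLike.mem_coe, mem_centralizer_singleton_iff]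
        exact mul_inv_eq_iff_eq_mul.mp (hgens u₂ hu₂) |>.symm
    intro l hl
    have := hle' hl
    rw [mem_centralizer_singleton_iff] at this
    exact mul_inv_eq_iff_eq_mul.mpr this.symm
  -- no square roots of `z` in the kernel
  have hnosq : ∀ k : G, T k = 1 → k ^ 2 ≠ z := by
    intro k hk1 hk2
    obtain ⟨i, hi⟩ := exists_sq_eq_z C hs hk
    have hcomm : k * i = i * k := mul_inv_eq_iff_eq_mul.mp (hcent k hk1 i i.2)
    have h1 : (k * i) ^ 2 = 1 := by
      rw [Commute.mul_pow hcomm, hk2, hi]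
      exact C.zz
    have hkL : k ∈ L := by
      by_cases h2 : k * i = 1
      · rw [eq_inv_of_mul_eq_one_left h2]
        exact inv_mem i.2
      · have h3 := C.inv_eq h1 h2
        have h4 : k = z * (i : G)⁻¹ := by
          rw [← h3]; group
        rw [h4]
        exact mul_mem hzL (inv_mem i.2)
    let k' : L := ⟨k, hkL⟩
    have hk'c : phi π k' = 1 := by
      apply Cfsg.Agent.Lib.Zassen.Checks2.c5_center
      · exact Equiv.Perm.mem_alternatingGroup.mp (π k').2
      · intro f hf
        obtain ⟨l, hl⟩ := hs ⟨f, Equiv.Perm.mem_alternatingGroup.mpr hf⟩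
        have hlf : phi π l = f := by rw [phi_apply, hl]
        rw [← hlf, ← map_mul, ← map_mul]
        congr 1
        apply Subtype.ext
        exact mul_inv_eq_iff_eq_mul.mp (hcent k hk1 l l.2)
    rcases (hk k').mp (phi_eq_one.mp hk'c) with h5 | h5
    · apply C.z1
      rw [← hk2]
      have h6 : k = 1 := h5
      rw [h6, one_pow]
    · apply C.z1
      have h6 : k = z := h5
      rw [h6, C.z2] at hk2
      exact hk2.symm
  -- 2-elements of the kernel
  have hel : ∀ x : G, T x = 1 → ∀ k : ℕ, x ^ 2 ^ k = 1 → x = 1 ∨ x = z := by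
    intro x hx k hxk
    by_cases hxG1 : x = 1
    · exact Or.inl hxG1
    · right
      obtain ⟨s, -, hs'⟩ := (Nat.dvd_prime_pow Nat.prime_two).mp (orderOf_dvd_of_pow_eq_one hxk)
      have hs0 : s ≠ 0 := by
        rintro rfl
        rw [pow_zero] at hs'
        exact hxG1 (orderOf_eq_one_iff.mp hs')
      obtain ⟨s, rfl⟩ := Nat.exists_eq_succ_of_ne_zero hs0
      rcases s with _ | s
      · apply C.inv_eq _ hxG1
        have := pow_orderOf_eq_one x
        rwa [hs'] at this
      · exfalso
        -- an element of order four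
        let y : G := x ^ 2 ^ s
        have hy1 : T y = 1 := by
          rw [map_pow, hx, one_pow]
        have hy2 : y ^ 2 = z := by
          apply C.inv_eq
          · have : (y ^ 2) ^ 2 = x ^ 2 ^ (s + 1 + 1) := by
              simp only [y, ← pow_mul]
              congr 1
            rw [this, ← Nat.succ_eq_add_one (s + 1), ← hs']
            exact pow_orderOf_eq_one _
          · intro h
            have h1 : y ^ 2 = x ^ 2 ^ (s + 1) := by
              simp only [y, ← pow_mul]
              congr 1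
            have h2 : orderOf x ∣ 2 ^ (s + 1) :=
              orderOf_dvd_of_pow_eq_one (h1 ▸ h)
            rw [hs'] at h2
            have := Nat.pow_dvd_pow_iff_le_right (x := 2) (by norm_num) |>.mp h2
            omega
        exact hnosq y hy1 hy2
  -- the kernel is a Z-group
  refine ⟨hN, T, hTL, hcent, hnosq, hel, ?_⟩
  refine ⟨fun q hq P => ?_⟩
  haveI : Fact q.Prime := ⟨hq⟩
  have hfpf : IsFPF (ρ.comp T.ker.subtype) := fpf_comp_subtype C.fpf _
  rcases subgroup_alt hfpf (P : Subgroup T.ker) P.isPGroup' with hcyc | ⟨rfl, -⟩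
  · exact hcyc
  · -- a 2-group in which every element is `1` or `z`
    have hel' : ∀ x : (P : Subgroup T.ker), x = 1 ∨ (((x : T.ker) : G)) = z := by
      intro x
      obtain ⟨k, hk'⟩ := P.isPGroup' x
      have hx' : ((x : T.ker) : G) ^ 2 ^ k = 1 := by
        simpa using congrArg (fun y : (P : Subgroup T.ker) => ((y : T.ker) : G)) hk'
      rcases hel _ (x : T.ker).2 k hx' with h | h
      · left
        exact Subtype.ext (Subtype.ext h)
      · right
        exact h
    by_cases hall1 : ∀ x : (P : Subgroup T.ker), x = 1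
    · haveI : Subsingleton (P : Subgroup T.ker) :=
        ⟨fun x y => by rw [hall1 x, hall1 y]⟩
      infer_instance
    · push Not at hall1
      obtain ⟨x₀, hx₀⟩ := hall1
      have hx₀z := (hel' x₀).resolve_left hx₀
      refine ⟨x₀, fun y => ?_⟩
      rcases hel' y with rfl | hy
      · exact ⟨0, by simp⟩
      · have : y = x₀ := Subtype.ext (Subtype.ext (hy.trans hx₀z.symm))
        exact ⟨1, by simp [this]⟩


section Sub

omit [Nontrivial V] [IsAlgClosed E] [FiniteDimensional E V] [Fact p.Prime] [CharP E p] in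
/-- A finite non-solvable group has a non-trivial perfect normal subgroup. -/
theorem exists_perfect_sub (hns : ¬ Group.IsSolvable G) :
    ∃ S : Subgroup G, S.Normal ∧ S ≠ ⊥ ∧ commutator S = ⊤ := by
  have hfin : (Set.range (derivedSeries G)).Finite := Set.toFinite _
  obtain ⟨S, hmin⟩ := hfin.exists_minimal (Set.range_nonempty _)
  obtain ⟨⟨k, rfl⟩, hk⟩ := hmin
  have hle : derivedSeries G (k + 1) ≤ derivedSeries G k := by
    rw [derivedSeries_succ]
    exact commutator_le_left _ _
  have heq : derivedSeries G (k + 1) = derivedSeries G k :=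
    le_antisymm hle (hk ⟨k + 1, rfl⟩ hle)
  refine ⟨derivedSeries G k, derivedSeries_normal G k, ?_, ?_⟩
  · intro h
    exact hns ((Group.isSolvable_def G).mpr ⟨k, h⟩)
  · apply Subgroup.map_injective (derivedSeries G k).subtype_injective
    rw [map_subtype_commutator, ← derivedSeries_succ, heq, ← MonoidHom.range_eq_map,
      Subgroup.range_subtype]

theorem ctx_sub (C : Ctx ρ z p) (S : Subgroup G) (hz : z ∈ S) :
    Ctx (ρ.comp S.subtype) (⟨z, hz⟩ : S) p where
  fpf := fpf_comp_subtype C.fpf S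
  z2 := Subtype.ext C.z2
  z1 := fun h => C.z1 (congrArg Subtype.val h)
  hpow := fun x hx => Subtype.ext (C.hpow _ (by simpa using congrArg Subtype.val hx))

/-- Odd order subgroups are Z-groups. -/
theorem isZGroup_of_odd_sub (C : Ctx ρ z p) (S : Subgroup G) (h2 : ¬ 2 ∣ Nat.card S) : IsZGroup S := by
  refine ⟨fun q hq P => ?_⟩
  haveI : Fact q.Prime := ⟨hq⟩
  rcases subgroup_alt (fpf_comp_subtype C.fpf S) (P : Subgroup S) P.isPGroup' with h | ⟨-, n, ⟨e⟩⟩
  · exact h
  · exfalso
    apply h2
    have h3 : Nat.card (QuaternionGroup (2 ^ n)) = Nat.card P := Nat.card_congr e.symm.toEquiv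
    rw [Nat.card_eq_fintype_card, QuaternionGroup.card] at h3
    have h4 : Nat.card P ∣ Nat.card S := Subgroup.card_subgroup_dvd_card _
    rw [← h3] at h4
    exact (Dvd.intro_left (2 * 2 ^ n) (by ring)).trans h4

theorem z_mem_of_perfect (C : Ctx ρ z p) (S : Subgroup G) (hS : S ≠ ⊥) (hperf : commutator S = ⊤) :
    z ∈ S := by
  by_cases h2 : 2 ∣ Nat.card S
  · obtain ⟨t, ht⟩ := exists_prime_orderOf_dvd_card' (p := 2) (G := S) h2
    have ht2 : (t : G) ^ 2 = 1 := by
      have := pow_orderOf_eq_one t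
      rw [ht] at this
      simpa using congrArg Subtype.val this
    have ht1 : (t : G) ≠ 1 := by
      intro h
      have : t = 1 := Subtype.ext h
      rw [this, orderOf_one] at ht
      omega
    have := C.inv_eq ht2 ht1
    rw [← this]
    exact t.2
  · exfalso
    haveI := isZGroup_of_odd_sub C S h2
    have hsub := perf_solv hperf (MonoidHom.id S) Function.surjective_id
    apply hS
    rw [eq_bot_iff]
    intro x hx
    have : (⟨x, hx⟩ : S) = 1 := Subsingleton.elim _ _
    simpa using congrArg Subtype.val this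

/-- A perfect subgroup has type `2·A₅`. -/
theorem typ5_of_perfect (C : Ctx ρ z p) (S : Subgroup G) (hS : S ≠ ⊥) (hperf : commutator S = ⊤) :
    Typ 5 S z ∧ Nonempty (S ≃* Matrix.SpecialLinearGroup (Fin 2) (ZMod 5)) := by
  have hz := z_mem_of_perfect C S hS hperf
  have C' := ctx_sub C S hz
  refine ⟨?_, core C' hperf⟩
  obtain ⟨L, hL⟩ := exists_typ5 C' hperf
  rw [eq_top_of_typ5 C' hperf hL] at hL
  obtain ⟨π₀, hs₀, hk₀⟩ := hL
  let ι : S →* (⊤ : Subgroup S) := MonoidHom.codRestrict (MonoidHom.id S) ⊤ (fun x => mem_top x)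
  refine ⟨π₀.comp ι, ?_, ?_⟩
  · intro e
    obtain ⟨⟨y, hy⟩, hy'⟩ := hs₀ e
    exact ⟨y, hy'⟩
  · intro x
    rw [MonoidHom.comp_apply, hk₀ (ι x)]
    constructor
    · rintro (h | h)
      · left
        have h1 : x = 1 := h
        rw [h1]
        rfl
      · right
        exact congrArg Subtype.val h
    · rintro (h | h)
      · left
        exact Subtype.ext h
      · right
        exact Subtype.ext h

end Sub

section Main

/-- The structure theorem for non-solvable fixed-point-free linear groups. -/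
theorem ctx_struct (C : Ctx ρ z p) (hns : ¬ Group.IsSolvable G) :
    ∃ G₀ : Subgroup G, G₀.Normal ∧ (G₀.index = 1 ∨ G₀.index = 2) ∧
      ∃ S M : Subgroup G, S ⊔ M = G₀ ∧ S ⊓ M = ⊥ ∧ (∀ s ∈ S, ∀ x ∈ M, s * x = x * s) ∧
        Nonempty (S ≃* Matrix.SpecialLinearGroup (Fin 2) (ZMod 5)) ∧
        IsZGroup M ∧ (Nat.card M).Coprime 30 ∧ S.Normal ∧ z ∈ S := by
  obtain ⟨S, hSN, hSb, hSp⟩ := exists_perfect_sub hns
  obtain ⟨hT5, hiso⟩ := typ5_of_perfect C S hSb hSp
  have hzS := C.z_mem5 hT5
  have hcardS := C.card5 hT5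
  obtain ⟨π, hs, hk⟩ := hT5
  obtain ⟨-, T, hTL, hcent, hnosq, hel, hZ⟩ := typ5_struct C hs hk
  set C₀ := T.ker with hC₀
  haveI := hZ
  have hTz : T z = 1 := by
    have := hTL ⟨z, hzS⟩
    rw [this, phi_eq_one]
    exact (hk _).mpr (Or.inr rfl)
  -- the Sylow 2-subgroup of the kernel
  let P : Sylow 2 C₀ := default
  have hPel : ∀ x : C₀, x ∈ (P : Subgroup C₀) → (x : G) = 1 ∨ (x : G) = z := by
    intro x hx
    obtain ⟨k, hk'⟩ := P.isPGroup' ⟨x, hx⟩
    have hx' : (x : G) ^ 2 ^ k = 1 := by
      simpa using congrArg (fun y : (P : Subgroup C₀) => ((y : C₀) : G)) hk'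
    exact hel _ x.2 k hx'
  have hP : normalizer (P : Subgroup C₀) ≤ centralizer ((P : Subgroup C₀) : Set C₀) := by
    intro n _
    rw [mem_centralizer_iff]
    intro x hx
    apply Subtype.ext
    rcases hPel x hx with h | h
    · simp [h]
    · simp only [Subgroup.coe_mul, h]
      exact (C.comm _).symm
  let M₀ : Subgroup C₀ := (MonoidHom.transferSylow P hP).ker
  have hc : IsComplement' M₀ (P : Subgroup C₀) := MonoidHom.ker_transferSylow_isComplement' P hP
  have hM₀2 : ¬ 2 ∣ Nat.card M₀ := MonoidHom.not_dvd_card_ker_transferSylow P hP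
  let M : Subgroup G := M₀.map C₀.subtype
  have hMle : M ≤ C₀ := by
    rintro _ ⟨m, -, rfl⟩
    exact m.2
  have hMcard : Nat.card M = Nat.card M₀ :=
    Nat.card_congr (Subgroup.equivMapOfInjective M₀ C₀.subtype C₀.subtype_injective).toEquiv.symm
  -- `z` lies in the Sylow subgroup
  have hzP : (⟨z, hTz⟩ : C₀) ∈ (P : Subgroup C₀) := by
    have h2 : 2 ∣ Nat.card C₀ := by
      have : orderOf (⟨z, hTz⟩ : C₀) = 2 := orderOf_eq_prime (Subtype.ext C.z2)
        (fun h => C.z1 (congrArg Subtype.val h))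
      rw [← this]
      exact orderOf_dvd_natCard _
    have hne := P.ne_bot_of_dvd_card h2
    obtain ⟨⟨y, hy⟩, hy1⟩ := (Subgroup.ne_bot_iff_exists_ne_one).mp hne
    have hy1' : (y : G) ≠ 1 := fun h => hy1 (Subtype.ext (Subtype.ext h))
    have hyz := (hPel y hy).resolve_left hy1'
    have : y = ⟨z, hTz⟩ := Subtype.ext hyz
    rw [← this]
    exact hy
  have hdis : Disjoint M₀ (P : Subgroup C₀) := hc.disjoint
  have hinf : S ⊓ M = ⊥ := by
    rw [eq_bot_iff]
    rintro x ⟨hxS, m, hm, rfl⟩
    rw [Subgroup.mem_bot]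
    have hT1 : T (m : G) = 1 := m.2
    have h1 := hTL ⟨m, hxS⟩
    rw [show T ((⟨m, hxS⟩ : S) : G) = T (m : G) from rfl, hT1] at h1
    have h2 := (hk _).mp (phi_eq_one.mp h1.symm)
    rcases h2 with h2 | h2
    · exact h2
    · exfalso
      have e : m = ⟨z, hTz⟩ := Subtype.ext h2
      have h3 := Subgroup.disjoint_def.mp hdis hm (e ▸ hzP)
      apply C.z1
      have h4 := congrArg Subtype.val h3
      rw [e] at h4
      exact h4
  refine ⟨(Equiv.Perm.sign.comp T).ker, inferInstance, ?_, S, M, ?_, hinf, ?_, hiso, ?_, ?_, hSN, hzS⟩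
  · have h1 : (Equiv.Perm.sign.comp T).ker.index ∣ 2 := by
      rw [Subgroup.index_ker]
      have := Subgroup.card_subgroup_dvd_card (Equiv.Perm.sign.comp T).range
      simpa [Nat.card_eq_fintype_card] using this
    rcases (Nat.dvd_prime Nat.prime_two).mp h1 with h | h
    · exact Or.inl h
    · exact Or.inr h
  · apply le_antisymm
    · apply sup_le
      · intro l hl
        rw [MonoidHom.mem_ker, MonoidHom.comp_apply]
        have := hTL ⟨l, hl⟩
        rw [show T ((⟨l, hl⟩ : S) : G) = T l from rfl] at this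
        rw [this, phi_apply]
        exact Equiv.Perm.mem_alternatingGroup.mp (π ⟨l, hl⟩).2
      · intro m hm
        rw [MonoidHom.mem_ker, MonoidHom.comp_apply, show T m = 1 from hMle hm, map_one]
    · intro g hg
      have hsg : Equiv.Perm.sign (T g) = 1 := hg
      obtain ⟨l, hl⟩ := hs ⟨T g, Equiv.Perm.mem_alternatingGroup.mpr hsg⟩
      have hlT : T l = T g := by
        rw [hTL, phi_apply, hl]
      have hc1 : T ((l : G)⁻¹ * g) = 1 := by
        rw [map_mul, map_inv, hlT, inv_mul_cancel]
      obtain ⟨⟨m, x⟩, hmx⟩ := hc.2 ⟨(l : G)⁻¹ * g, hc1⟩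
      have hmx' : (((m : M₀) : C₀) : G) * (((x : (P : Subgroup C₀)) : C₀) : G) = (l : G)⁻¹ * g :=
        congrArg Subtype.val hmx
      have hxS : (((x : (P : Subgroup C₀)) : C₀) : G) ∈ S := by
        rcases hPel _ x.2 with h | h <;> rw [h]
        · exact one_mem _
        · exact hzS
      have hxc : (((m : M₀) : C₀) : G) * (((x : (P : Subgroup C₀)) : C₀) : G) =
          (((x : (P : Subgroup C₀)) : C₀) : G) * (((m : M₀) : C₀) : G) := by
        rcases hPel _ x.2 with h | h <;> rw [h]
        · simp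
        · exact C.comm _
      have hg' : g = ((l : G) * (((x : (P : Subgroup C₀)) : C₀) : G)) * (((m : M₀) : C₀) : G) := by
        rw [mul_assoc, ← hxc, hmx']
        group
      rw [hg']
      exact Subgroup.mul_mem _ (Subgroup.mem_sup_left (S.mul_mem l.2 hxS))
        (Subgroup.mem_sup_right ⟨_, m.2, rfl⟩)
  · intro s hs' x hx
    have := hcent x (hMle hx) s hs'
    exact (mul_inv_eq_iff_eq_mul.mp this).symm
  · exact IsZGroup.of_injective (f := Subgroup.inclusion hMle) (Subgroup.inclusion_injective hMle)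
  · -- coprimality
    have h30 : ∀ q : ℕ, q.Prime → q ∣ 30 → ¬ q ∣ Nat.card M := by
      intro q hq hq30 hdvd
      haveI : Fact q.Prime := ⟨hq⟩
      have hq2 : q ≠ 2 → q ∣ 120 := fun _ => hq30.trans (by norm_num)
      by_cases h2 : q = 2
      · subst h2
        rw [hMcard] at hdvd
        exact hM₀2 hdvd
      · have hq120 : q ∣ Nat.card S := by
          rw [hcardS]
          exact hq2 h2
        obtain ⟨y, hy⟩ := exists_prime_orderOf_dvd_card' (G := S) q hq120
        obtain ⟨x, hx⟩ := exists_prime_orderOf_dvd_card' (G := M) q hdvd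
        have hyq : (y : G) ^ q = 1 := by
          have := pow_orderOf_eq_one y
          rw [hy] at this
          simpa using congrArg Subtype.val this
        have hxq : (x : G) ^ q = 1 := by
          have := pow_orderOf_eq_one x
          rw [hx] at this
          simpa using congrArg Subtype.val this
        have hy1 : (y : G) ≠ 1 := by
          intro h
          have : y = 1 := Subtype.ext h
          rw [this, orderOf_one] at hy
          exact hq.one_lt.ne hy
        have hx1 : (x : G) ≠ 1 := by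
          intro h
          have : x = 1 := Subtype.ext h
          rw [this, orderOf_one] at hx
          exact hq.one_lt.ne hx
        have hcomm : (y : G) * x = x * y := by
          have := hcent x (hMle x.2) y y.2
          exact (mul_inv_eq_iff_eq_mul.mp this).symm
        obtain ⟨k, hk'⟩ := pow_of_comm C.fpf hy1 hyq hxq hcomm
        have hxS : (x : G) ∈ S := by
          rw [hk']
          exact S.pow_mem y.2 k
        have : (x : G) ∈ S ⊓ M := ⟨hxS, x.2⟩
        rw [hinf, Subgroup.mem_bot] at this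
        exact hx1 this
    have e30 : (30 : ℕ) = 2 * 3 * 5 := by norm_num
    rw [e30]
    refine Nat.Coprime.mul_right (Nat.Coprime.mul_right ?_ ?_) ?_
    · exact ((Nat.Prime.coprime_iff_not_dvd Nat.prime_two).mpr (h30 2 Nat.prime_two (by norm_num))).symm
    · exact ((Nat.Prime.coprime_iff_not_dvd Nat.prime_three).mpr (h30 3 Nat.prime_three (by norm_num))).symm
    · exact ((Nat.Prime.coprime_iff_not_dvd Nat.prime_five).mpr (h30 5 Nat.prime_five (by norm_num))).symm

end Main

end Cfsg.Agent.Lib.Zassen.Struct
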