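import Cfsg.Agent.Lib.Zassen.Frames

/-!
# The action on a normal subgroup covering `A_n`, by "rigidity" of generating frames
-/

set_option autoImplicit false
set_option linter.unusedSectionVars false
set_option linter.style.haveILetI false

namespace Cfsg.Agent.Lib.Zassen.Tau

open Module Subgroup
open Cfsg.Agent.Lib.Zassen.Basic Cfsg.Agent.Lib.Zassen.Klein Cfsg.Agent.Lib.Zassen.Checks
open Cfsg.Agent.Lib.Zassen.Frames

section Abstract

variable {G : Type*} [Group G]

/-- Conjugation on a normal subgroup. -/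
def cj (L : Subgroup G) [L.Normal] (g : G) (l : L) : L :=
  ⟨g * l * g⁻¹, ‹L.Normal›.conj_mem l l.2 g⟩

@[simp] theorem cj_coe (L : Subgroup G) [L.Normal] (g : G) (l : L) :
    (cj L g l : G) = g * l * g⁻¹ := rfl

theorem cj_mul (L : Subgroup G) [L.Normal] (g h : G) (l : L) : cj L (g * h) l = cj L g (cj L h l) :=
  Subtype.ext (by simp; group)

/-- A homomorphism on `L` is determined by its values on generators. -/
theorem hom_ext_of_gen {P : Type*} [Group P] {L : Subgroup G} {ι : Type*} (s : ι → L)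
    (hgen : L = closure (Set.range fun i => (s i : G))) {f₁ f₂ : L →* P}
    (h : ∀ i, f₁ (s i) = f₂ (s i)) : f₁ = f₂ := by
  ext ⟨l, hl⟩
  have hl' : l ∈ closure (Set.range fun i => (s i : G)) := hgen ▸ hl
  have key : ∀ (x : G) (hx : x ∈ closure (Set.range fun i => (s i : G))),
      ∃ hm : x ∈ L, f₁ ⟨x, hm⟩ = f₂ ⟨x, hm⟩ := by
    intro x hx
    induction hx using Subgroup.closure_induction with
    | mem x hx =>
      obtain ⟨i, rfl⟩ := hx
      exact ⟨(s i).2, h i⟩
    | one => exact ⟨L.one_mem, by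
        have e : (⟨1, L.one_mem⟩ : L) = 1 := rfl
        rw [e, map_one, map_one]⟩
    | mul x y _ _ hx hy =>
      obtain ⟨hxm, hx⟩ := hx
      obtain ⟨hym, hy⟩ := hy
      refine ⟨L.mul_mem hxm hym, ?_⟩
      have e : (⟨x * y, L.mul_mem hxm hym⟩ : L) = ⟨x, hxm⟩ * ⟨y, hym⟩ := rfl
      rw [e, map_mul, map_mul, hx, hy]
    | inv x _ hx =>
      obtain ⟨hxm, hx⟩ := hx
      refine ⟨L.inv_mem hxm, ?_⟩
      have e : (⟨x⁻¹, L.inv_mem hxm⟩ : L) = (⟨x, hxm⟩ : L)⁻¹ := rfl
      rw [e, map_inv, map_inv, hx]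
  obtain ⟨_, h2⟩ := key l hl'
  exact h2

theorem tau_exists {P : Type*} [Group P] {L : Subgroup G} [L.Normal] (φ : L →* P)
    {ι : Type*} (s : ι → L) (hgen : L = closure (Set.range fun i => (s i : G)))
    (hex : ∀ g : G, ∃ τ : P, ∀ i, τ * φ (s i) * τ⁻¹ = φ (cj L g (s i)))
    (huniq : ∀ τ : P, (∀ i, τ * φ (s i) * τ⁻¹ = φ (s i)) → τ = 1) :
    ∃ T : G →* P, (∀ (g : G) (l : L), T g * φ l * (T g)⁻¹ = φ (cj L g l)) ∧ ∀ l : L, T l = φ l := by
  choose T0 hT0 using hex
  have key : ∀ (g : G) (l : L), T0 g * φ l * (T0 g)⁻¹ = φ (cj L g l) := by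
    intro g l
    let f₁ : L →* P := (MulAut.conj (T0 g)).toMonoidHom.comp φ
    let f₂ : L →* P :=
      { toFun := fun l => φ (cj L g l)
        map_one' := by
          have : cj L g 1 = 1 := Subtype.ext (by simp)
          rw [this, map_one]
        map_mul' := fun x y => by
          have : cj L g (x * y) = cj L g x * cj L g y := Subtype.ext (by
            simp only [cj_coe, Subgroup.coe_mul]; group)
          rw [this, map_mul] }
    have hf : f₁ = f₂ := hom_ext_of_gen s hgen (fun i => by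
      change T0 g * φ (s i) * (T0 g)⁻¹ = φ (cj L g (s i))
      exact hT0 g i)
    have := congrArg (fun f => f l) hf
    simpa [f₁, f₂, MulAut.conj_apply] using this
  have hmul : ∀ g h : G, T0 (g * h) = T0 g * T0 h := by
    intro g h
    have h1 : (T0 g * T0 h)⁻¹ * T0 (g * h) = 1 := by
      apply huniq
      intro i
      have e1 := key (g * h) (s i)
      rw [cj_mul, ← key g, ← key h] at e1
      calc (T0 g * T0 h)⁻¹ * T0 (g * h) * φ (s i) * ((T0 g * T0 h)⁻¹ * T0 (g * h))⁻¹
          = (T0 g * T0 h)⁻¹ * (T0 (g * h) * φ (s i) * (T0 (g * h))⁻¹) * (T0 g * T0 h) := by group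
        _ = φ (s i) := by rw [e1]; group
    exact (inv_mul_eq_one.mp h1).symm
  refine ⟨MonoidHom.mk' T0 hmul, key, ?_⟩
  intro l
  change T0 l = φ l
  have h1 : (φ l)⁻¹ * T0 l = 1 := by
    apply huniq
    intro i
    have e1 := key l (s i)
    have e2 : cj L (l : G) (s i) = l * s i * l⁻¹ := Subtype.ext (by simp)
    rw [e2, map_mul, map_mul, map_inv] at e1
    calc (φ l)⁻¹ * T0 l * φ (s i) * ((φ l)⁻¹ * T0 l)⁻¹
        = (φ l)⁻¹ * (T0 l * φ (s i) * (T0 l)⁻¹) * φ l := by group
      _ = φ (s i) := by rw [e1]; group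
  exact (inv_mul_eq_one.mp h1).symm

end Abstract

end Cfsg.Agent.Lib.Zassen.Tau
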